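import Cfsg.Agent.Lib.Recog.SporBound.Fi22U6.Group

set_option autoImplicit false
set_option maxRecDepth 4000

/-!
The 3-transposition class of Fi22 (owner: helper6).
-/

namespace CfsgLib.Recog.SporBound.Fi22U6

open Cfsg CfsgLib.ThreeTrans.CosetIndex
open CfsgLib.Recog.SporBound.Fi22Group (a act K card_and_faithful finite_fi22)
open Cfsg.Agent.S1687 (fits)

/-- The first row. -/
noncomputable abbrev origin : Fin FiHat3510.data.n := ⟨0, by decide⟩

theorem stab_eq {g : Spor.Fi22} : act g origin = origin ↔ g ∈ K := by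
  have := finite_fi22
  have hfix : ∀ k ∈ K, act k origin = origin := by
    intro k hk
    rw [K, map_closure_eq fits] at hk
    induction hk using Subgroup.closure_induction with
    | mem g hg =>
      obtain ⟨w, hw, rfl⟩ := hg
      rw [map_list_prod, List.map_map, show (act ∘ a) = Data.perm FiHat3510.valid from funext (toPerm_gen FiHat3510.valid fits)]
      exact Data.perm_sub FiHat3510.valid hw
    | one => rw [map_one]; rfl
    | mul g g' _ _ i1 i2 => rw [map_mul, Equiv.Perm.mul_apply, i2, i1]
    | inv g _ i1 => rw [map_inv, Equiv.Perm.inv_eq_iff_eq]; exact i1.symm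
  refine ⟨fun h => ?_, hfix g⟩
  let S : Subgroup Spor.Fi22 :=
    { carrier := {g | act g origin = origin}
      one_mem' := by show act 1 origin = origin; rw [map_one]; rfl
      mul_mem' := fun {g g'} h1 h2 => by
        show act (g * g') origin = origin
        rw [map_mul, Equiv.Perm.mul_apply, h2, h1]
      inv_mem' := fun {g} h1 => by
        show act g⁻¹ origin = origin
        rw [map_inv, Equiv.Perm.inv_eq_iff_eq]; exact h1.symm }
  rcases Fi22Group.maximal (M := S) (fun k hk => hfix k hk) with h' | h'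
  · exact h' ▸ (show g ∈ S from h)
  · exfalso
    have h1 : a 1 ∈ S := h' ▸ Subgroup.mem_top _
    have h2 := trace_eq_act [1] origin
    rw [List.map_cons, List.map_nil, List.prod_cons, List.prod_nil, mul_one,
      show act (a 1) origin = origin from h1] at h2
    exact absurd h2 (by decide +kernel)

theorem orbit1_iff (r : Fin FiHat3510.data.n) : FiHat3510.mask1.testBit r = true ↔
    ∃ k ∈ K, act k (⟨1, by decide⟩ : Fin FiHat3510.data.n) = r := by
  obtain ⟨e, he⟩ := exists_presented_equiv FiHat3510.valid fits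
  have h := (presented_orbit FiHat3510.valid fits (c₀ := (⟨1, by decide⟩ : Fin FiHat3510.data.n)) FiHat3510.orb1 e he).1
  set c₀ : Fin FiHat3510.data.n := ⟨1, by decide⟩
  constructor
  · intro hr
    have h1 : e.symm r ∈ {q | FiHat3510.mask1.testBit (e q) = true} := by
      show FiHat3510.mask1.testBit (e (e.symm r)) = true
      rw [Equiv.apply_symm_apply]; exact hr
    rw [← h] at h1
    obtain ⟨k, hk⟩ := h1
    refine ⟨k, k.2, ?_⟩
    have := congrArg e hk
    rw [Equiv.apply_symm_apply] at this
    change e ((k : Spor.Fi22) • e.symm c₀) = r at this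
    rwa [he, Equiv.apply_symm_apply] at this
  · rintro ⟨k, hk, rfl⟩
    have h1 : (⟨k, hk⟩ : K) • e.symm c₀ ∈ MulAction.orbit K (e.symm c₀) := ⟨_, rfl⟩
    rw [h] at h1
    change FiHat3510.mask1.testBit (e (k • e.symm c₀)) = true at h1
    rwa [he, Equiv.apply_symm_apply] at h1

/-- A word with `g` followed by `a` conjugated by it. -/
def pairWord (g : List ℕ) : List ℕ := [0] ++ g ++ [0] ++ g.reverse

theorem rows_cover : ((List.range 3510).all fun r => Nat.beq r 0 || FiHat3510.mask0.testBit r ||
    FiHat3510.mask1.testBit r) = true := by decide +kernel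

theorem pair_ok : ((List.range 3510).all fun c =>
    Nat.beq (FiHat3510.data.trace c (pairWord [7, 4, 3, 1, 2, 0, 1] ++ pairWord [7, 4, 3, 1, 2, 0, 1]).reverse) c &&
      Nat.beq (FiHat3510.data.trace c (pairWord [1] ++ pairWord [1] ++ pairWord [1]).reverse) c) = true ∧
    Nat.beq (FiHat3510.data.trace 0 [7, 4, 3, 1, 2, 0, 1].reverse) 7 = true ∧
    Nat.beq (FiHat3510.data.trace 0 [1].reverse) 1 = true := by
  refine ⟨?_, ?_, ?_⟩ <;> decide +kernel

theorem prod_eq_one_of_trace {w : List ℕ}
    (h : ∀ c < 3510, FiHat3510.data.trace c w.reverse = c) : (w.map a).prod = 1 := by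
  refine card_and_faithful.2.1 (Equiv.ext fun c => Fin.ext ?_)
  rw [← trace_eq_act, h c c.2, map_one]
  rfl

theorem center_a : ∀ k ∈ K, k * a 0 = a 0 * k := by
  have h0 : a 0 ∈ K := gj_zero ▸ gj_mem 0
  have hc : (⟨a 0, h0⟩ : K) ∈ Subgroup.center K := by
    rw [center_K, MonoidHom.mem_ker, proj_eq (k := ⟨a 0, h0⟩) (M := Mj 0)
      (by show Rel (a 0) _; rw [← gj_zero]; exact rel_gj act0)]
    rfl
  exact fun k hk => congrArg Subtype.val (Subgroup.mem_center_iff.1 hc ⟨k, hk⟩)

theorem a_ne_one : a 0 ≠ 1 := fun e => by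
  have h := trace_eq_act [0] (⟨1, by decide⟩ : Fin FiHat3510.data.n)
  rw [List.map_cons, List.map_nil, List.prod_cons, List.prod_nil, mul_one, e, map_one] at h
  exact absurd h (by decide +kernel)

/-- The centraliser of the first generator is the point stabiliser. -/
theorem centralizer_a : Subgroup.centralizer ({a 0} : Set Spor.Fi22) = K := by
  have := finite_fi22
  have hle : K ≤ Subgroup.centralizer ({a 0} : Set Spor.Fi22) := fun k hk =>
    Subgroup.mem_centralizer_singleton_iff.2 (center_a k hk)
  refine (Fi22Group.maximal hle).resolve_right fun h => ?_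
  haveI : IsSimpleGroup Spor.Fi22 := Fi22Group.isSimple
  have hmem : a 0 ∈ Subgroup.center Spor.Fi22 := Subgroup.mem_center_iff.2 fun g =>
    Subgroup.mem_centralizer_singleton_iff.1 (h ▸ Subgroup.mem_top g)
  rcases (inferInstance : (Subgroup.center Spor.Fi22).Normal).eq_bot_or_eq_top with h' | h'
  · exact a_ne_one (Subgroup.mem_bot.1 (h' ▸ hmem))
  · letI : CommGroup Spor.Fi22 := Group.commGroupOfCenterEqTop h'
    have hp := IsSimpleGroup.prime_card (α := Spor.Fi22)
    rw [card_and_faithful.1] at hp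
    norm_num at hp

/-- Two transpositions have product of order at most three. -/
theorem pair (g : Spor.Fi22) :
    (a 0 * (g * a 0 * g⁻¹)) ^ 2 = 1 ∨ (a 0 * (g * a 0 * g⁻¹)) ^ 3 = 1 := by
  have hcomm : ∀ k ∈ K, k * a 0 * k⁻¹ = a 0 := fun k hk => by
    rw [center_a k hk, mul_inv_cancel_right]
  have hcase : ∀ (w : List ℕ) (r : Fin FiHat3510.data.n), FiHat3510.data.trace 0 w.reverse = r →
      (∃ k ∈ K, act k r = act g origin) → ∀ n : ℕ,
      (((List.replicate n (pairWord w)).flatten).map a).prod = 1 → (a 0 * (g * a 0 * g⁻¹)) ^ n = 1 := by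
    intro w r hr ⟨k, hk, hkr⟩ n hn
    set h := (w.map a).prod
    have hh : act h origin = r := Fin.ext (by rw [← trace_eq_act]; exact hr)
    have hk' : (k * h)⁻¹ * g ∈ K := stab_eq.1 (by
      rw [map_mul, Equiv.Perm.mul_apply, ← hkr, ← hh, map_inv, map_mul, Equiv.Perm.inv_eq_iff_eq,
        Equiv.Perm.mul_apply])
    have e : g * a 0 * g⁻¹ = k * (h * a 0 * h⁻¹) * k⁻¹ := by
      calc g * a 0 * g⁻¹ = (k * h) * (((k * h)⁻¹ * g) * a 0 * ((k * h)⁻¹ * g)⁻¹) * (k * h)⁻¹ := by group
        _ = _ := by rw [hcomm _ hk']; group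
    have e2 : a 0 * (g * a 0 * g⁻¹) = k * (a 0 * (h * a 0 * h⁻¹)) * k⁻¹ := by
      rw [e]
      nth_rewrite 1 [← hcomm k hk]
      group
    rw [e2, conj_pow]
    have e3 : ((pairWord w).map a).prod = a 0 * (h * a 0 * h⁻¹) := by
      simp only [pairWord, List.map_append, List.prod_append, List.map_cons, List.map_nil, List.prod_cons,
        List.prod_nil, mul_one, prod_reverse_eq_inv a a_sq, mul_assoc, h]
    rw [List.map_flatten, List.prod_flatten, List.map_map, List.map_replicate, List.prod_replicate,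
      Function.comp_apply, e3] at hn
    rw [hn, mul_one, mul_inv_cancel]
  obtain ⟨hp, h7, h1⟩ := pair_ok
  have hp' := fun c hc => Bool.and_eq_true_iff.1 (List.all_eq_true.1 hp c (List.mem_range.2 hc))
  have h := List.all_eq_true.1 rows_cover (act g origin) (List.mem_range.2 (act g origin).2)
  simp only [Bool.or_eq_true] at h
  rcases h with (h | h) | h
  · left
    have hg : g ∈ K := stab_eq.1 (Fin.ext (Nat.eq_of_beq_eq_true h))
    rw [hcomm g hg, a_sq, one_pow]
  · left
    refine hcase [7, 4, 3, 1, 2, 0, 1] base (Nat.eq_of_beq_eq_true h7) ((orbit_iff _).1 h) 2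
      (prod_eq_one_of_trace fun c hc => ?_)
    rw [show (List.replicate 2 (pairWord [7, 4, 3, 1, 2, 0, 1])).flatten =
      pairWord [7, 4, 3, 1, 2, 0, 1] ++ pairWord [7, 4, 3, 1, 2, 0, 1] from rfl]
    exact Nat.eq_of_beq_eq_true (hp' c hc).1
  · right
    refine hcase [1] ⟨1, by decide⟩ (Nat.eq_of_beq_eq_true h1) ((orbit1_iff _).1 h) 3
      (prod_eq_one_of_trace fun c hc => ?_)
    rw [show (List.replicate 3 (pairWord [1])).flatten = pairWord [1] ++ pairWord [1] ++ pairWord [1] from rfl]
    exact Nat.eq_of_beq_eq_true (hp' c hc).2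

theorem double_cover_of_equiv {H H' P : Type*} [Group H] [Group H'] [Group P] [Finite H] (e : H ≃* H')
    (h : Cfsg.IsNonsplitDoubleCover H P) : Cfsg.IsNonsplitDoubleCover H' P := by
  have hmap : (Subgroup.center H).map e.toMonoidHom = Subgroup.center H' :=
    CfsgLib.Classical.Herm.map_center_of_equiv e
  obtain ⟨h1, ⟨h2⟩, h3⟩ := h
  haveI : Finite H' := Finite.of_equiv H e.toEquiv
  refine ⟨?_, ⟨(QuotientGroup.congr _ _ e hmap).symm.trans h2⟩, fun L hL => h3 (L.comap e.toMonoidHom) ?_⟩
  · rw [← hmap, Nat.card_congr ((Subgroup.center H).equivMapOfInjective _ e.injective).toEquiv.symm, h1]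
  · refine Subgroup.isComplement'_of_card_mul_and_disjoint ?_ ?_
    · rw [Nat.card_congr e.toEquiv, ← hL.card_mul, ← hmap,
        Nat.card_congr ((Subgroup.center H).equivMapOfInjective _ e.injective).toEquiv.symm]
      congr 1
      exact Nat.card_congr (Equiv.subtypeEquiv e.toEquiv fun _ => Iff.rfl)
    · rw [Subgroup.disjoint_def]
      intro z hz hz'
      have h4 : e z ∈ Subgroup.center H' := hmap ▸ Subgroup.mem_map_of_mem _ hz
      exact e.injective (((Subgroup.disjoint_def.1 hL.disjoint) h4 hz').trans (map_one e).symm)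

/-- The conjugates of the first generator. -/
theorem realization : Cfsg.IsThreeTranspositionClass (conjugatesOf (a 0)) ∧
    Nat.card (conjugatesOf (a 0)) = 3510 ∧
    ∀ d ∈ conjugatesOf (a 0),
      Cfsg.IsNonsplitDoubleCover (Subgroup.centralizer ({d} : Set Spor.Fi22)) (Cfsg.PSU 6 F4 2) := by
  have := finite_fi22
  haveI : IsSimpleGroup Spor.Fi22 := Fi22Group.isSimple
  have hord : ∀ d ∈ conjugatesOf (a 0), orderOf d = 2 := fun d hd => by
    obtain ⟨g, rfl⟩ := isConj_iff.1 hd
    refine orderOf_eq_prime ?_ fun e => a_ne_one (conj_eq_one_iff.1 e)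
    rw [conj_pow, pow_two, a_sq, mul_one, mul_inv_cancel]
  refine ⟨⟨⟨hord, ?_⟩, ⟨a 0, mem_conjugatesOf_self, rfl⟩, ?_⟩, ?_, ?_⟩
  · intro d hd e he
    obtain ⟨g, rfl⟩ := isConj_iff.1 hd
    obtain ⟨g', rfl⟩ := isConj_iff.1 he
    have e' : g * a 0 * g⁻¹ * (g' * a 0 * g'⁻¹) =
        g * (a 0 * (g⁻¹ * g' * a 0 * (g⁻¹ * g')⁻¹)) * g⁻¹ := by group
    rw [e']
    simp only [conj_pow, conj_eq_one_iff]
    exact pair _
  · have hn : (Subgroup.closure (conjugatesOf (a 0))).Normal := by
      have : Subgroup.normalClosure {a 0} = Subgroup.closure (conjugatesOf (a 0)) := by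
        rw [Subgroup.normalClosure]
        congr 1
        ext z
        simp [Group.mem_conjugatesOfSet_iff, conjugatesOf]
      rw [← this]; infer_instance
    rcases hn.eq_bot_or_eq_top with h | h
    · exact absurd (Subgroup.mem_bot.1 (h ▸ Subgroup.subset_closure mem_conjugatesOf_self)) a_ne_one
    · exact h
  · have hb : Function.Bijective (fun q : Spor.Fi22 ⧸ Subgroup.centralizer ({a 0} : Set Spor.Fi22) =>
        Quotient.liftOn' q (fun g => (⟨g * a 0 * g⁻¹, isConj_iff.2 ⟨g, rfl⟩⟩ : conjugatesOf (a 0)))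
          (fun g g' h => by
            rw [QuotientGroup.leftRel_apply, Subgroup.mem_centralizer_singleton_iff] at h
            refine Subtype.ext ?_
            show g * a 0 * g⁻¹ = g' * a 0 * g'⁻¹
            calc g * a 0 * g⁻¹ = g * (a 0 * (g⁻¹ * g')) * g'⁻¹ := by group
              _ = _ := by rw [← h]; group)) := by
      constructor
      · intro q q' h
        induction q using QuotientGroup.induction_on with
        | _ g =>
          induction q' using QuotientGroup.induction_on with
          | _ g' =>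
            have h' : g * a 0 * g⁻¹ = g' * a 0 * g'⁻¹ := congrArg Subtype.val h
            rw [QuotientGroup.eq, Subgroup.mem_centralizer_singleton_iff]
            calc g⁻¹ * g' * a 0 = g⁻¹ * (g' * a 0 * g'⁻¹) * g' := by group
              _ = _ := by rw [← h']; group
      · rintro ⟨d, hd⟩
        obtain ⟨g, rfl⟩ := isConj_iff.1 hd
        exact ⟨(g : Spor.Fi22 ⧸ _), rfl⟩
    rw [← Nat.card_congr (Equiv.ofBijective _ hb), ← Subgroup.index, centralizer_a, Fi22Group.index_K]
  · intro d hd
    obtain ⟨g, rfl⟩ := isConj_iff.1 hd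
    have e : K.map (MulAut.conj g).toMonoidHom = Subgroup.centralizer ({g * a 0 * g⁻¹} : Set Spor.Fi22) := by
      rw [← centralizer_a]
      ext z
      rw [Subgroup.mem_map_equiv, Subgroup.mem_centralizer_singleton_iff, Subgroup.mem_centralizer_singleton_iff,
        MulAut.conj_symm_apply]
      constructor <;> intro h
      · calc z * (g * a 0 * g⁻¹) = g * (g⁻¹ * z * g * a 0) * g⁻¹ := by group
          _ = _ := by rw [h]; group
      · calc g⁻¹ * z * g * a 0 = g⁻¹ * (z * (g * a 0 * g⁻¹)) * g := by group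
          _ = _ := by rw [h]; group
    exact double_cover_of_equiv ((K.equivMapOfInjective _ (MulAut.conj g).injective).trans (MulEquiv.subgroupCongr e))
      double_cover

end CfsgLib.Recog.SporBound.Fi22U6
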