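import Mathlib

set_option autoImplicit false

/-! The field with four elements, by tables (owner: helper6). -/

namespace CfsgLib.Recog.SporBound.Fi22U6

/-- The field with four elements. -/
inductive F4
  | zero
  | one
  | om
  | om'
  deriving DecidableEq

namespace F4

instance : Fintype F4 := ⟨{.zero, .one, .om, .om'}, fun x => by cases x <;> decide⟩

/-- Addition. -/
def add : F4 → F4 → F4
  | .zero, x => x
  | x, .zero => x
  | .one, .one => .zero
  | .om, .om => .zero
  | .om', .om' => .zero
  | .one, .om => .om'
  | .om, .one => .om'
  | .one, .om' => .om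
  | .om', .one => .om
  | .om, .om' => .one
  | .om', .om => .one

/-- Multiplication. -/
def mul : F4 → F4 → F4
  | .zero, _ => .zero
  | _, .zero => .zero
  | .one, x => x
  | x, .one => x
  | .om, .om => .om'
  | .om, .om' => .one
  | .om', .om => .one
  | .om', .om' => .om

/-- Inversion. -/
def inv : F4 → F4
  | .om => .om'
  | .om' => .om
  | x => x

instance : Zero F4 := ⟨.zero⟩
instance : One F4 := ⟨.one⟩
instance : Add F4 := ⟨add⟩
instance : Mul F4 := ⟨mul⟩
instance : Neg F4 := ⟨fun x => x⟩
instance : Inv F4 := ⟨inv⟩

instance : Field F4 where
  add_assoc := by decide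
  zero_add := by decide
  add_zero := by decide
  add_comm := by decide
  left_distrib := by decide
  right_distrib := by decide
  zero_mul := by decide
  mul_zero := by decide
  mul_assoc := by decide
  one_mul := by decide
  mul_one := by decide
  mul_comm := by decide
  neg_add_cancel := by decide
  exists_pair_ne := ⟨.zero, .one, by decide⟩
  mul_inv_cancel := by decide
  inv_zero := by decide
  nsmul := nsmulRec
  zsmul := zsmulRec
  nnqsmul := _
  qsmul := _

theorem card : Fintype.card F4 = 2 ^ 2 := by decide

/-- The element with a given number. -/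
def ofNat4 : ℕ → F4
  | 0 => .zero
  | 1 => .one
  | 2 => .om
  | _ => .om'

/-- The number of an element. -/
def num : F4 → ℕ
  | .zero => 0
  | .one => 1
  | .om => 2
  | .om' => 3

theorem sq_eq : ∀ x : F4, x ^ 2 = mul x x := by decide +kernel

end F4

end CfsgLib.Recog.SporBound.Fi22U6
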