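import Cfsg.Agent.Lib.Recog.SporBound.Fi22U6.Data
import Cfsg.Agent.Lib.Recog.SporBound.Fi22U6.FieldFour
import Cfsg.Agent.Lib.ThreeTrans.CosetIndex.FiHat3510.Valid
import Cfsg.Agent.Lib.ThreeTrans.CosetIndex.FiHat3510.Orbits

set_option autoImplicit false
set_option maxRecDepth 20000
set_option Elab.async false

/-! Kernel checks for the unitary description of the 693 points (owner: helper6). -/

namespace CfsgLib.Recog.SporBound.Fi22U6

open CfsgLib.ThreeTrans.CosetIndex

/-- The list of a code. -/
def lvec (c : ℕ) : List F4 := (List.range 6).map fun i => F4.ofNat4 (c / 4 ^ i % 4)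

/-- The code of the vector of a row. -/
noncomputable def rowCode (r : ℕ) : ℕ := rowTree.get r

/-- The hermitian product with the second argument squared. -/
def ldot : List F4 → List F4 → F4
  | x :: xs, v :: vs => x * (v * v) + ldot xs vs
  | _, _ => 0

/-- Adding a multiple. -/
def laxpy (c : F4) : List F4 → List F4 → List F4
  | x :: xs, v :: vs => (x + c * v) :: laxpy c xs vs
  | _, _ => []

/-- A transvection on lists. -/
def ltr (v x : List F4) : List F4 := laxpy (ldot x v) x v

/-- The image of a vector under the product of transvections. -/
noncomputable def limg (rs : List ℕ) (x : List F4) : List F4 := rs.foldr (fun r y => ltr (lvec (rowCode r)) y) x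

/-- The words of the generators of the stabiliser. -/
noncomputable def genWord (j : ℕ) : List ℕ := FiHat3510.data.subs.getD j []

/-- The generator acts on the rows of the mask as the product of its transvections. -/
noncomputable def actOK (j : ℕ) : Bool :=
  (List.range 3510).all fun r => !FiHat3510.mask0.testBit r ||
    (FiHat3510.mask0.testBit (FiHat3510.data.trace r (genWord j).reverse) &&
      [F4.one, F4.om, F4.om'].any fun l => limg (facData.getD j []) (lvec (rowCode r)) ==
        (lvec (rowCode (FiHat3510.data.trace r (genWord j).reverse))).map (l * ·))

/-- The points are isotropic. -/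
theorem iso_ok : (List.range 3510).all (fun r => !FiHat3510.mask0.testBit r ||
    (decide (ldot (lvec (rowCode r)) (lvec (rowCode r)) = 0))) = true := by decide +kernel

theorem fac_mask : facData.all (fun rs => rs.all fun r => FiHat3510.mask0.testBit r && decide (r < 3510)) = true := by
  decide +kernel

theorem act0 : actOK 0 = true := by decide +kernel
theorem act1 : actOK 1 = true := by decide +kernel
theorem act2 : actOK 2 = true := by decide +kernel
theorem act3 : actOK 3 = true := by decide +kernel
theorem act4 : actOK 4 = true := by decide +kernel
theorem act5 : actOK 5 = true := by decide +kernel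
theorem act6 : actOK 6 = true := by decide +kernel
theorem act7 : actOK 7 = true := by decide +kernel
theorem act8 : actOK 8 = true := by decide +kernel

/-- An isotropic non-zero vector is a multiple of the vector of a row of the mask. -/
noncomputable def coverOK (c : ℕ) : Bool :=
  Nat.beq c 0 || !(decide (ldot (lvec c) (lvec c) = 0)) ||
    (FiHat3510.mask0.testBit (codeTree.get c) && decide (codeTree.get c < 3510) &&
      [F4.one, F4.om, F4.om'].any fun l => lvec c == (lvec (rowCode (codeTree.get c))).map (l * ·))

theorem cover_ok : (List.range 4096).all coverOK = true := by decide +kernel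

/-- A word for a conjugate of a letter. -/
noncomputable def relWord (p : List ℕ × ℕ) : List ℕ := p.1.flatMap genWord ++ [p.2] ++ (p.1.flatMap genWord).reverse

theorem rel_ok : ((List.range 3510).all fun c =>
    Nat.beq (FiHat3510.data.trace c (relData.flatMap relWord)) (FiHat3510.data.tab c 0)) = true := by
  decide +kernel

end CfsgLib.Recog.SporBound.Fi22U6
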