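import Cfsg.Agent.Lib.Recog.SporBound.Fi22Group
import Cfsg.Agent.Lib.Recog.SporBound.Fi22U6.Checks
import Cfsg.Agent.Lib.Classical.Unitary.MatrixStructure
import Cfsg.Agent.Lib.Classical.Unitary.Two
import Cfsg.Prelude.Def_SporadicB

set_option autoImplicit false
set_option maxRecDepth 4000

/-!
The point stabiliser of Fi22 on 3510 points is a non-split double cover of PSU(6, 2) (owner: helper6).
-/

namespace CfsgLib.Recog.SporBound.Fi22U6

open Cfsg CfsgLib.ThreeTrans.CosetIndex CfsgLib.Classical.Herm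
open CfsgLib.Recog.SporBound.Fi22Group (a act K card_and_faithful finite_fi22)
open Cfsg.Agent.S1687 (fits gens words)
open scoped Matrix

/-- The special unitary group. -/
abbrev SU6 : Type := ↥(Cfsg.SU 6 F4 2)

/-- The matrix. -/
def mat (M : SU6) : Matrix (Fin 6) (Fin 6) F4 :=
  ((M : Matrix.SpecialLinearGroup (Fin 6) F4) : Matrix (Fin 6) (Fin 6) F4)

theorem mat_mul (M N : SU6) : mat (M * N) = mat M * mat N := rfl

theorem mat_one : mat 1 = 1 := rfl

theorem form_eq (N : SU6) (x y : Fin 6 → F4) :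
    Cfsg.hermForm 6 F4 2 (mat N *ᵥ x) (mat N *ᵥ y) = Cfsg.hermForm 6 F4 2 x y := N.2 x y

theorem eq_of_mulVec {M N : SU6} (h : ∀ x, mat M *ᵥ x = mat N *ᵥ x) : M = N := by
  refine Subtype.ext (Subtype.ext ?_)
  ext i j
  have := congrFun (h (Pi.single j 1)) i
  simpa [Matrix.mulVec_single, mat] using this

theorem one_skew : (1 : F4) + powHom F4.card 1 = 0 := by
  rw [map_one]; decide

/-- The transvection at an isotropic vector. -/
noncomputable def tsu (v : Fin 6 → F4) : SU6 :=
  if h : hermStd 6 F4.card v v = 0 then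
    (suEquiv 6 F4.card).symm ⟨(hermStd_isHerm F4.card).tr h one_skew, (hermStd_isHerm F4.card).det_tr h one_skew⟩
  else 1

theorem hermStd_eq (v x : Fin 6 → F4) : hermStd 6 F4.card v x = Cfsg.hermForm 6 F4 2 x v := by
  rw [hermStd_apply]

theorem tsu_apply {v : Fin 6 → F4} (hv : Cfsg.hermForm 6 F4 2 v v = 0) (x : Fin 6 → F4) :
    mat (tsu v) *ᵥ x = x + Cfsg.hermForm 6 F4 2 x v • v := by
  have h : hermStd 6 F4.card v v = 0 := by rw [hermStd_eq]; exact hv
  rw [tsu, dif_pos h, mat, suEquiv_symm_tr, unitaryTransvection_mulVec F4.card, one_mul, hermStd_eq]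

theorem tsu_smul {v : Fin 6 → F4} (hv : Cfsg.hermForm 6 F4 2 v v = 0) {l : F4} (hl : l ≠ 0) :
    tsu (l • v) = tsu v := by
  have key : ∀ l : F4, l ≠ 0 → l ^ 2 * l = 1 := by decide +kernel
  have hsr : ∀ x y : Fin 6 → F4, Cfsg.hermForm 6 F4 2 x (l • y) = l ^ 2 * Cfsg.hermForm 6 F4 2 x y := fun x y => by
    simp only [Cfsg.hermForm, Pi.smul_apply, smul_eq_mul, Finset.mul_sum, mul_pow]
    exact Finset.sum_congr rfl fun i _ => by ring
  have hsl : ∀ x y : Fin 6 → F4, Cfsg.hermForm 6 F4 2 (l • x) y = l * Cfsg.hermForm 6 F4 2 x y := fun x y => by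
    simp only [Cfsg.hermForm, Pi.smul_apply, smul_eq_mul, Finset.mul_sum]
    exact Finset.sum_congr rfl fun i _ => by ring
  refine eq_of_mulVec fun x => ?_
  rw [tsu_apply hv, tsu_apply (by rw [hsr, hsl, hv, mul_zero, mul_zero]), hsr, smul_smul]
  congr 2
  rw [mul_right_comm, key l hl, one_mul]

theorem tsu_conj (N : SU6) {v : Fin 6 → F4} (hv : Cfsg.hermForm 6 F4 2 v v = 0) :
    N * tsu v * N⁻¹ = tsu (mat N *ᵥ v) := by
  refine eq_of_mulVec fun z => ?_
  rw [tsu_apply (by rw [form_eq]; exact hv), mat_mul, mat_mul, ← Matrix.mulVec_mulVec, ← Matrix.mulVec_mulVec,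
    tsu_apply hv, Matrix.mulVec_add, Matrix.mulVec_smul, Matrix.mulVec_mulVec, ← mat_mul, mul_inv_cancel,
    mat_one, Matrix.one_mulVec]
  congr 2
  rw [← form_eq N, Matrix.mulVec_mulVec, ← mat_mul, mul_inv_cancel, mat_one, Matrix.one_mulVec]

/-- The function of a list. -/
def toF (l : List F4) : Fin 6 → F4 := fun i => l.getD i 0

theorem six {l : List F4} (h : l.length = 6) : ∃ x₀ x₁ x₂ x₃ x₄ x₅, l = [x₀, x₁, x₂, x₃, x₄, x₅] :=
  match l, h with
  | [x₀, x₁, x₂, x₃, x₄, x₅], _ => ⟨x₀, x₁, x₂, x₃, x₄, x₅, rfl⟩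

theorem length_lvec (c : ℕ) : (lvec c).length = 6 := by simp [lvec]

theorem herm_toF {l m : List F4} (hl : l.length = 6) (hm : m.length = 6) :
    Cfsg.hermForm 6 F4 2 (toF l) (toF m) = ldot l m := by
  obtain ⟨x₀, x₁, x₂, x₃, x₄, x₅, rfl⟩ := six hl
  obtain ⟨y₀, y₁, y₂, y₃, y₄, y₅, rfl⟩ := six hm
  simp only [Cfsg.hermForm, Fin.sum_univ_six, toF, ldot, sq, add_zero, add_assoc]
  rfl

theorem toF_ltr {v x : List F4} (hv : v.length = 6) (hx : x.length = 6) :
    (ltr v x).length = 6 ∧ toF (ltr v x) = toF x + ldot x v • toF v := by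
  obtain ⟨x₀, x₁, x₂, x₃, x₄, x₅, rfl⟩ := six hx
  obtain ⟨y₀, y₁, y₂, y₃, y₄, y₅, rfl⟩ := six hv
  simp only [ltr, laxpy]
  refine ⟨rfl, funext fun i => ?_⟩
  fin_cases i <;> rfl

theorem toF_map {l : List F4} (hl : l.length = 6) (c : F4) : toF (l.map (c * ·)) = c • toF l := by
  obtain ⟨x₀, x₁, x₂, x₃, x₄, x₅, rfl⟩ := six hl
  funext i
  fin_cases i <;> rfl

/-- The vector of a row. -/
noncomputable def V (r : ℕ) : Fin 6 → F4 := toF (lvec (rowCode r))

/-- The rows of the 693 points. -/
abbrev inO (r : ℕ) : Prop := FiHat3510.mask0.testBit r = true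

theorem iso_row {r : ℕ} (hr : r < 3510) (h : inO r) : Cfsg.hermForm 6 F4 2 (V r) (V r) = 0 := by
  have := List.all_eq_true.1 iso_ok r (List.mem_range.2 hr)
  rw [h, Bool.not_true, Bool.false_or, decide_eq_true_eq] at this
  rw [V, herm_toF (length_lvec _) (length_lvec _)]
  exact this

/-- A product of transvections at rows. -/
noncomputable def tprod (rs : List ℕ) : SU6 := (rs.map fun r => tsu (V r)).prod

theorem tprod_apply : ∀ (rs : List ℕ), (∀ r ∈ rs, r < 3510 ∧ inO r) → ∀ x : List F4, x.length = 6 →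
    (limg rs x).length = 6 ∧ mat (tprod rs) *ᵥ toF x = toF (limg rs x)
  | [], _, x, hx => ⟨hx, by rw [tprod, List.map_nil, List.prod_nil, mat_one, Matrix.one_mulVec]; rfl⟩
  | r :: rs, h, x, hx => by
    obtain ⟨hlen, he⟩ := tprod_apply rs (fun s hs => h s (List.mem_cons_of_mem _ hs)) x hx
    obtain ⟨h1, h2⟩ := toF_ltr (length_lvec (rowCode r)) hlen
    refine ⟨h1, ?_⟩
    rw [tprod, List.map_cons, List.prod_cons, mat_mul, ← Matrix.mulVec_mulVec, ← tprod, he,
      tsu_apply (iso_row (h r List.mem_cons_self).1 (h r List.mem_cons_self).2), V,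
      herm_toF hlen (length_lvec _)]
    exact h2.symm

/-- The generators of the stabiliser. -/
noncomputable def gj (j : ℕ) : Spor.Fi22 := ((genWord j).map a).prod

theorem gj_mem (j : ℕ) : gj j ∈ K := by
  rw [K, map_closure_eq fits]
  by_cases hj : j < FiHat3510.data.subs.length
  · refine Subgroup.subset_closure ⟨_, List.getElem_mem hj, ?_⟩
    rw [gj, genWord, List.getD_eq_getElem _ _ hj]
  · rw [gj, genWord, List.getD_eq_default _ _ (by omega), List.map_nil, List.prod_nil]
    exact one_mem _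

theorem a_sq (x : ℕ) : a x * a x = 1 := gen_inv Fi22Group.nodes x

theorem trace_eq_act (w : List ℕ) (c : Fin FiHat3510.data.n) :
    FiHat3510.data.trace c w.reverse = ((act (w.map a).prod c : Fin FiHat3510.data.n) : ℕ) := by
  rw [trace_smul FiHat3510.valid fits, prod_reverse_eq_inv a a_sq, inv_inv]

/-- The row 7. -/
noncomputable abbrev base : Fin FiHat3510.data.n := ⟨7, by decide⟩

theorem orbit_iff (r : Fin FiHat3510.data.n) : inO r ↔ ∃ k ∈ K, act k base = r := by
  obtain ⟨e, he⟩ := exists_presented_equiv FiHat3510.valid fits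
  have h := (presented_orbit FiHat3510.valid fits (c₀ := base) FiHat3510.orb0 e he).1
  constructor
  · intro hr
    have h1 : e.symm r ∈ {q | FiHat3510.mask0.testBit (e q) = true} := by
      show FiHat3510.mask0.testBit (e (e.symm r)) = true
      rw [Equiv.apply_symm_apply]; exact hr
    rw [← h] at h1
    obtain ⟨k, hk⟩ := h1
    refine ⟨k, k.2, ?_⟩
    have := congrArg e hk
    rw [Equiv.apply_symm_apply] at this
    change e ((k : Spor.Fi22) • e.symm base) = r at this
    rwa [he, Equiv.apply_symm_apply] at this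
  · rintro ⟨k, hk, rfl⟩
    have h1 : (⟨k, hk⟩ : K) • e.symm base ∈ MulAction.orbit K (e.symm base) := ⟨_, rfl⟩
    rw [h] at h1
    change FiHat3510.mask0.testBit (e (k • e.symm base)) = true at h1
    rwa [he, Equiv.apply_symm_apply] at h1

theorem inO_act {k : Spor.Fi22} (hk : k ∈ K) {r : Fin FiHat3510.data.n} (h : inO r) : inO (act k r) := by
  obtain ⟨k', hk', rfl⟩ := (orbit_iff r).1 h
  exact (orbit_iff _).2 ⟨k * k', mul_mem hk hk', by rw [map_mul]; rfl⟩

/-- A unitary matrix describes an element of the stabiliser. -/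
def Rel (k : Spor.Fi22) (M : SU6) : Prop :=
  ∀ r : Fin FiHat3510.data.n, inO r → ∃ l : F4, l ≠ 0 ∧ mat M *ᵥ V r = l • V (act k r)

theorem rel_one : Rel 1 1 := fun r _ => ⟨1, one_ne_zero, by
  rw [mat_one, Matrix.one_mulVec, one_smul, map_one]; rfl⟩

theorem rel_mul {k k' : Spor.Fi22} {M M' : SU6} (hk' : k' ∈ K) (h : Rel k M) (h' : Rel k' M') :
    Rel (k * k') (M * M') := fun r hr => by
  obtain ⟨l', hl', e'⟩ := h' r hr
  obtain ⟨l, hl, e⟩ := h (act k' r) (inO_act hk' hr)
  refine ⟨l' * l, mul_ne_zero hl' hl, ?_⟩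
  rw [mat_mul, ← Matrix.mulVec_mulVec, e', Matrix.mulVec_smul, e, smul_smul, map_mul]
  rfl

theorem rel_inv {k : Spor.Fi22} {M : SU6} (hk : k ∈ K) (h : Rel k M) : Rel k⁻¹ M⁻¹ := fun r hr => by
  obtain ⟨l, hl, e⟩ := h _ (inO_act (inv_mem hk) hr)
  rw [map_inv, Equiv.Perm.coe_inv, Equiv.apply_symm_apply] at e
  refine ⟨l⁻¹, inv_ne_zero hl, ?_⟩
  rw [map_inv, Equiv.Perm.coe_inv]
  have e' := congrArg (fun x => l⁻¹ • (mat M⁻¹ *ᵥ x)) e
  simp only [Matrix.mulVec_mulVec, ← mat_mul, inv_mul_cancel, mat_one, Matrix.one_mulVec, Matrix.mulVec_smul,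
    smul_smul, inv_mul_cancel₀ hl, one_smul] at e'
  exact e'.symm

/-- The images of the generators. -/
noncomputable def Mj (j : ℕ) : SU6 := tprod (facData.getD j [])

theorem fac_ok (j : ℕ) : ∀ r ∈ facData.getD j [], r < 3510 ∧ inO r := by
  intro r hr
  by_cases hj : j < facData.length
  · rw [List.getD_eq_getElem _ _ hj] at hr
    have := List.all_eq_true.1 (List.all_eq_true.1 fac_mask _ (List.getElem_mem hj)) r hr
    rw [Bool.and_eq_true, decide_eq_true_eq] at this
    exact ⟨this.2, this.1⟩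
  · rw [List.getD_eq_default _ _ (by omega)] at hr
    exact absurd hr List.not_mem_nil

theorem rel_gj {j : ℕ} (h : actOK j = true) : Rel (gj j) (Mj j) := fun r hr => by
  have h' := List.all_eq_true.1 h r (List.mem_range.2 r.2)
  rw [show FiHat3510.mask0.testBit r = true from hr, Bool.not_true, Bool.false_or, Bool.and_eq_true,
    List.any_eq_true, trace_eq_act] at h'
  obtain ⟨-, l, hl, e⟩ := h'
  have hl0 : l ≠ 0 := by
    simp only [List.mem_cons, List.not_mem_nil, or_false] at hl
    rcases hl with rfl | rfl | rfl <;> decide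
  refine ⟨l, hl0, ?_⟩
  show mat (tprod _) *ᵥ toF _ = _
  rw [(tprod_apply _ (fac_ok j) _ (length_lvec _)).2, eq_of_beq e, toF_map (length_lvec _)]
  rfl

theorem exists_rel {k : Spor.Fi22} (hk : k ∈ K) : ∃ M, Rel k M := by
  have hk' : k ∈ Subgroup.closure {g | ∃ w ∈ FiHat3510.data.subs, g = (w.map a).prod} := by
    rwa [K, map_closure_eq fits] at hk
  have hKle : Subgroup.closure {g | ∃ w ∈ FiHat3510.data.subs, g = (w.map a).prod} = K :=
    (map_closure_eq fits).symm
  induction hk' using Subgroup.closure_induction with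
  | mem g hg =>
    obtain ⟨w, hw, rfl⟩ := hg
    obtain ⟨j, hj, rfl⟩ := List.getElem_of_mem hw
    refine ⟨Mj j, ?_⟩
    have hj9 : j < 9 := by
      have : FiHat3510.data.subs.length = 9 := by decide +kernel
      omega
    have e : gj j = ((FiHat3510.data.subs[j]).map a).prod := by rw [gj, genWord, List.getD_eq_getElem _ _ hj] <;> rfl
    suffices h : Rel (gj j) (Mj j) from (congrArg (fun z => Rel z (Mj j)) e).mp h
    interval_cases j
    exacts [rel_gj act0, rel_gj act1, rel_gj act2, rel_gj act3, rel_gj act4, rel_gj act5, rel_gj act6,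
      rel_gj act7, rel_gj act8]
  | one => exact ⟨1, rel_one⟩
  | mul g g' hg hg' ih ih' =>
    obtain ⟨M, hM⟩ := ih (hKle ▸ hg)
    obtain ⟨M', hM'⟩ := ih' (hKle ▸ hg')
    exact ⟨M * M', rel_mul (hKle ▸ hg') hM hM'⟩
  | inv g hg ih =>
    obtain ⟨M, hM⟩ := ih (hKle ▸ hg)
    exact ⟨M⁻¹, rel_inv (hKle ▸ hg) hM⟩

/-- Every isotropic vector other than zero is a multiple of the vector of a point. -/
theorem cover {v : Fin 6 → F4} (hv : v ≠ 0) (hi : Cfsg.hermForm 6 F4 2 v v = 0) :
    ∃ r : Fin FiHat3510.data.n, inO r ∧ ∃ l : F4, l ≠ 0 ∧ v = l • V r := by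
  set c := F4.num (v 0) + 4 * F4.num (v 1) + 16 * F4.num (v 2) + 64 * F4.num (v 3) + 256 * F4.num (v 4) +
    1024 * F4.num (v 5) with hc
  have hn : ∀ x : F4, F4.num x < 4 ∧ F4.ofNat4 (F4.num x) = x := by decide
  have hlt : c < 4096 := by
    have := (hn (v 0)).1; have := (hn (v 1)).1; have := (hn (v 2)).1; have := (hn (v 3)).1
    have := (hn (v 4)).1; have := (hn (v 5)).1
    omega
  have hlv : lvec c = [v 0, v 1, v 2, v 3, v 4, v 5] := by
    have := (hn (v 0)).1; have := (hn (v 1)).1; have := (hn (v 2)).1; have := (hn (v 3)).1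
    have := (hn (v 4)).1; have := (hn (v 5)).1
    simp only [lvec, List.range, List.range.loop, List.map_cons, List.map_nil, pow_zero, Nat.div_one]
    rw [show c % 4 = F4.num (v 0) by omega, show c / 4 ^ 1 % 4 = F4.num (v 1) by omega,
      show c / 4 ^ 2 % 4 = F4.num (v 2) by omega, show c / 4 ^ 3 % 4 = F4.num (v 3) by omega,
      show c / 4 ^ 4 % 4 = F4.num (v 4) by omega, show c / 4 ^ 5 % 4 = F4.num (v 5) by omega,
      (hn (v 0)).2, (hn (v 1)).2, (hn (v 2)).2, (hn (v 3)).2, (hn (v 4)).2, (hn (v 5)).2]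
  have hv' : v = toF (lvec c) := by rw [hlv]; funext i; fin_cases i <;> rfl
  have h := List.all_eq_true.1 cover_ok c (List.mem_range.2 hlt)
  have hd : ldot (lvec c) (lvec c) = 0 := by rw [← herm_toF (length_lvec c) (length_lvec c), ← hv', hi]
  have hc0 : Nat.beq c 0 = false := Bool.eq_false_iff.2 fun h0 => by
    refine hv ?_
    rw [hv', Nat.eq_of_beq_eq_true h0]
    funext i
    fin_cases i <;> rfl
  rw [coverOK, hc0, hd, decide_eq_true rfl, Bool.not_true, Bool.false_or, Bool.false_or, Bool.and_eq_true,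
    Bool.and_eq_true, decide_eq_true_eq, List.any_eq_true] at h
  obtain ⟨⟨hb, hr⟩, l, hl, e⟩ := h
  refine ⟨⟨_, hr⟩, hb, l, ?_, ?_⟩
  · simp only [List.mem_cons, List.not_mem_nil, or_false] at hl
    rcases hl with rfl | rfl | rfl <;> decide
  · rw [hv', eq_of_beq e, toF_map (length_lvec _)]
    rfl

theorem closure_tsu : Subgroup.closure {T : SU6 | ∃ v, Cfsg.hermForm 6 F4 2 v v = 0 ∧ T = tsu v} = ⊤ := by
  rw [eq_top_iff, ← su_closure_transvections F4.card 6 (by norm_num) (by norm_num), Subgroup.closure_le]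
  rintro A ⟨v, c, hv, hA⟩
  have hmul : ∀ x, mat A *ᵥ x = x + (c * Cfsg.hermForm 6 F4 2 x v) • v := fun x => by
    rw [mat, hA, unitaryTransvection_mulVec F4.card, hermStd_eq]
  by_cases hv0 : v = 0
  · rw [show A = 1 from eq_of_mulVec fun x => by
      rw [hmul, hv0, smul_zero, add_zero, mat_one, Matrix.one_mulVec]]
    exact one_mem _
  obtain ⟨i, hi⟩ : ∃ i, v i ≠ 0 := Function.ne_iff.1 hv0
  set f : Fin 6 → F4 := Pi.single i (v i)
  have cube : ∀ x : F4, x ≠ 0 → x * x ^ 2 = 1 := by decide +kernel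
  have hfv : Cfsg.hermForm 6 F4 2 f v = 1 := by
    rw [Cfsg.hermForm, Finset.sum_eq_single i]
    · simp [f, cube _ hi]
    · intro j _ hj; simp [f, Pi.single_eq_of_ne hj]
    · simp
  have hvf : Cfsg.hermForm 6 F4 2 v f = 1 := by
    rw [Cfsg.hermForm, Finset.sum_eq_single i]
    · simp [f, cube _ hi]
    · intro j _ hj; simp [f, Pi.single_eq_of_ne hj]
    · simp
  have add_sq : ∀ x y : F4, (x + y) ^ 2 = x ^ 2 + y ^ 2 := by decide +kernel
  have hexp : ∀ (x y : Fin 6 → F4) (s : F4), Cfsg.hermForm 6 F4 2 (x + s • y) (x + s • y) =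
      Cfsg.hermForm 6 F4 2 x x + s ^ 2 * Cfsg.hermForm 6 F4 2 x y + s * Cfsg.hermForm 6 F4 2 y x +
        s * s ^ 2 * Cfsg.hermForm 6 F4 2 y y := fun x y s => by
    simp only [Cfsg.hermForm, Finset.mul_sum, ← Finset.sum_add_distrib]
    refine Finset.sum_congr rfl fun j _ => ?_
    simp only [Pi.add_apply, Pi.smul_apply, smul_eq_mul, add_sq, mul_pow]
    ring
  have hc := form_eq A f f
  rw [hmul, hfv, mul_one, hexp, hfv, hvf, hv, mul_one, mul_one, mul_zero, add_zero] at hc
  have hc' : c = 0 ∨ c = 1 := by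
    have key : ∀ b x : F4, b + x ^ 2 + x = b → x = 0 ∨ x = 1 := by decide +kernel
    exact key _ _ hc
  rcases hc' with rfl | rfl
  · rw [show A = 1 from eq_of_mulVec fun x => by
      rw [hmul, zero_mul, zero_smul, add_zero, mat_one, Matrix.one_mulVec]]
    exact one_mem _
  · exact Subgroup.subset_closure ⟨v, hv, eq_of_mulVec fun x => by rw [hmul, one_mul, tsu_apply hv]⟩

theorem rel_one_central {N : SU6} (h : Rel 1 N) : N ∈ Subgroup.center SU6 := by
  rw [← Subgroup.centralizer_univ, ← Subgroup.coe_top, ← closure_tsu, Subgroup.centralizer_closure]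
  intro T hT
  obtain ⟨v, hv, rfl⟩ := hT
  by_cases hv0 : v = 0
  · rw [show tsu v = 1 from eq_of_mulVec fun x => by
      rw [tsu_apply hv, hv0, smul_zero, add_zero, mat_one, Matrix.one_mulVec]]
    simp
  obtain ⟨r, hr, l, hl, rfl⟩ := cover hv0 hv
  obtain ⟨m, hm, e⟩ := h r hr
  rw [map_one, Equiv.Perm.one_apply] at e
  have hiso := iso_row r.2 hr
  have e2 : N * tsu (l • V r) * N⁻¹ = tsu (l • V r) := by
    rw [tsu_smul hiso hl, tsu_conj N hiso, e, tsu_smul hiso hm]
  calc tsu (l • V r) * N = N * tsu (l • V r) * N⁻¹ * N := by rw [e2]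
    _ = N * tsu (l • V r) := by rw [inv_mul_cancel_right]

theorem rel_unique {k : Spor.Fi22} (hk : k ∈ K) {M M' : SU6} (h : Rel k M) (h' : Rel k M') :
    (M : Cfsg.PSU 6 F4 2) = (M' : Cfsg.PSU 6 F4 2) := by
  rw [QuotientGroup.eq]
  refine rel_one_central ?_
  have := rel_mul hk (rel_inv hk h) h'
  rwa [inv_mul_cancel] at this

/-- The homomorphism to PSU(6, 2). -/
noncomputable def proj : K →* Cfsg.PSU 6 F4 2 :=
  MonoidHom.mk' (fun k => ((exists_rel k.2).choose : SU6)) fun k k' => by
    rw [← QuotientGroup.mk_mul]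
    exact rel_unique (mul_mem k.2 k'.2) (exists_rel (k * k').2).choose_spec
      (rel_mul k'.2 (exists_rel k.2).choose_spec (exists_rel k'.2).choose_spec)

theorem proj_eq {k : K} {M : SU6} (h : Rel k M) : proj k = (M : Cfsg.PSU 6 F4 2) :=
  rel_unique k.2 (exists_rel k.2).choose_spec h

theorem proj_surjective : Function.Surjective proj := by
  have hrow : ∀ r : Fin FiHat3510.data.n, inO r → (tsu (V r) : Cfsg.PSU 6 F4 2) ∈ proj.range := by
    have h12 : ∃ r : Fin FiHat3510.data.n, (r : ℕ) = 12 ∧ inO r := ⟨⟨12, by decide⟩, rfl, by decide +kernel⟩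
    obtain ⟨s, hs, hsO⟩ := h12
    have hstart : (tsu (V s) : Cfsg.PSU 6 F4 2) ∈ proj.range := by
      refine MonoidHom.mem_range.2 ⟨(⟨gj 1, gj_mem 1⟩ : K), ?_⟩
      rw [proj_eq (k := (⟨gj 1, gj_mem 1⟩ : K)) (M := Mj 1) (rel_gj act1), hs, Mj, show facData.getD 1 [] = [12] from rfl, tprod, List.map_cons,
        List.map_nil, List.prod_cons, List.prod_nil, mul_one]
    intro r hr
    obtain ⟨k₁, hk₁, e₁⟩ := (orbit_iff s).1 hsO
    obtain ⟨k₂, hk₂, e₂⟩ := (orbit_iff r).1 hr
    let k : K := ⟨k₂ * k₁⁻¹, mul_mem hk₂ (inv_mem hk₁)⟩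
    obtain ⟨M, hM⟩ := exists_rel k.2
    obtain ⟨l, hl, e⟩ := hM s hsO
    have hact : act (k : Spor.Fi22) s = r := by
      show act (k₂ * k₁⁻¹) s = r
      rw [map_mul, Equiv.Perm.mul_apply, map_inv, ← e₁, Equiv.Perm.coe_inv, Equiv.symm_apply_apply, e₂]
    rw [hact] at e
    have e3 : M * tsu (V s) * M⁻¹ = tsu (V r) := by
      rw [tsu_conj M (iso_row s.2 hsO), e, tsu_smul (iso_row r.2 hr) hl]
    rw [← e3, QuotientGroup.mk_mul, QuotientGroup.mk_mul, QuotientGroup.mk_inv, ← proj_eq hM]
    have hk : proj k ∈ proj.range := MonoidHom.mem_range.2 ⟨k, rfl⟩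
    exact mul_mem (mul_mem hk hstart) (inv_mem hk)
  rw [← MonoidHom.range_eq_top, eq_top_iff,
    ← Subgroup.map_top_of_surjective _ (QuotientGroup.mk'_surjective (Subgroup.center SU6)), ← closure_tsu,
    MonoidHom.map_closure, Subgroup.closure_le]
  rintro _ ⟨_, ⟨v, hv, rfl⟩, rfl⟩
  by_cases hv0 : v = 0
  · rw [show tsu v = 1 from eq_of_mulVec fun x => by
      rw [tsu_apply hv, hv0, smul_zero, add_zero, mat_one, Matrix.one_mulVec], map_one]
    exact one_mem _
  obtain ⟨r, hr, l, hl, rfl⟩ := cover hv0 hv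
  rw [tsu_smul (iso_row r.2 hr) hl]
  exact hrow r hr

theorem card_psu : Nat.card (Cfsg.PSU 6 F4 2) = 9196830720 := by
  have h := card_PSU (q := 2) F4.card 6 (by norm_num)
  norm_num [Finset.prod_range_succ, Nat.even_iff] at h
  linarith

theorem card_ker : Nat.card proj.ker = 2 := by
  have := finite_fi22
  have h := proj.ker.card_mul_index
  rw [Subgroup.index_ker, MonoidHom.range_eq_top.2 proj_surjective, Subgroup.card_top, card_psu,
    card_and_faithful.2.2.1] at h
  exact Nat.eq_of_mul_eq_mul_right (by norm_num : 0 < 9196830720) (h.trans (by norm_num : (18393661440 : ℕ) = 2 * 9196830720))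

theorem center_K : Subgroup.center K = proj.ker := by
  have := finite_fi22
  haveI : IsSimpleGroup (Cfsg.PSU 6 F4 2) := isSimpleGroup_PSU' F4.card 6 (by norm_num) (by norm_num)
  have hz : Subgroup.center (Cfsg.PSU 6 F4 2) = ⊥ := by
    rcases (inferInstance : (Subgroup.center (Cfsg.PSU 6 F4 2)).Normal).eq_bot_or_eq_top with h | h
    · exact h
    · exfalso
      letI : CommGroup (Cfsg.PSU 6 F4 2) := Group.commGroupOfCenterEqTop h
      have hp := IsSimpleGroup.prime_card (α := Cfsg.PSU 6 F4 2)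
      rw [card_psu] at hp
      norm_num at hp
  refine le_antisymm (fun z hz' => ?_) fun z hz' => ?_
  · have : proj z ∈ Subgroup.center (Cfsg.PSU 6 F4 2) := Subgroup.mem_center_iff.2 fun y => by
      obtain ⟨x, rfl⟩ := proj_surjective y
      rw [← map_mul, ← map_mul, Subgroup.mem_center_iff.1 hz' x]
    rw [hz, Subgroup.mem_bot] at this
    exact this
  · refine Subgroup.mem_center_iff.2 fun x => ?_
    obtain ⟨u, -, huniv⟩ := Nat.card_eq_two_iff' (1 : proj.ker) |>.1 card_ker
    by_cases hz1 : z = 1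
    · simp [hz1]
    have hc : x * z * x⁻¹ ∈ proj.ker := (inferInstance : proj.ker.Normal).conj_mem z hz' x
    have hne : (⟨x * z * x⁻¹, hc⟩ : proj.ker) ≠ 1 := fun e => hz1 (conj_eq_one_iff.1 (congrArg Subtype.val e))
    have hne' : (⟨z, hz'⟩ : proj.ker) ≠ 1 := fun e => hz1 (congrArg Subtype.val e)
    have e : x * z * x⁻¹ = z := congrArg Subtype.val ((huniv _ hne).trans (huniv _ hne').symm)
    exact mul_inv_eq_iff_eq_mul.1 e

theorem gj_zero : gj 0 = a 0 := by
  rw [gj, show genWord 0 = [0] by decide +kernel, List.map_cons, List.map_nil, List.prod_cons, List.prod_nil, mul_one]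

theorem mem_two {G : Type*} [Group G] {L : Subgroup G} (h2 : L.index = 2) (k x : G) :
    k * x * k⁻¹ ∈ L ↔ x ∈ L := by
  rw [Subgroup.mul_mem_iff_of_index_two h2, Subgroup.mul_mem_iff_of_index_two h2, inv_mem_iff]
  tauto

theorem list_mem_two {G : Type*} [Group G] {L : Subgroup G} (h2 : L.index = 2) (P : Prop) :
    ∀ l : List G, (∀ g ∈ l, (g ∈ L ↔ P)) → Even l.length → l.prod ∈ L
  | [], _, _ => one_mem L
  | [g], _, h => by simp at h
  | g :: g' :: l, hl, h => by
    have ih := list_mem_two h2 P l (fun z hz => hl z (List.mem_cons_of_mem _ (List.mem_cons_of_mem _ hz)))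
      (by simpa [Nat.even_add_one] using h)
    rw [List.prod_cons, List.prod_cons, ← mul_assoc, Subgroup.mul_mem_iff_of_index_two h2,
      Subgroup.mul_mem_iff_of_index_two h2, hl g List.mem_cons_self, hl g' (List.mem_cons_of_mem _ List.mem_cons_self)]
    simpa using ih

theorem nonsplit (L : Subgroup K) : ¬ (Subgroup.center K).IsComplement' L := by
  intro hL
  classical
  have := finite_fi22
  have h2 : L.index = 2 := by rw [hL.index_eq_card, center_K, card_ker]
  have hmem : ∀ x, x < 9 → x ≠ 1 → a x ∈ K := by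
    intro x hx h1
    have : ∃ j < 9, genWord j = [x] := by
      interval_cases x <;> first
        | exact absurd rfl h1
        | exact ⟨0, by decide, by decide +kernel⟩
        | exact ⟨1, by decide, by decide +kernel⟩
        | exact ⟨2, by decide, by decide +kernel⟩
        | exact ⟨3, by decide, by decide +kernel⟩
        | exact ⟨4, by decide, by decide +kernel⟩
        | exact ⟨5, by decide, by decide +kernel⟩
        | exact ⟨6, by decide, by decide +kernel⟩
        | exact ⟨7, by decide, by decide +kernel⟩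
    obtain ⟨j, -, hj⟩ := this
    have h := gj_mem j
    rwa [gj, hj, List.map_cons, List.map_nil, List.prod_cons, List.prod_nil, mul_one] at h
  let g : ℕ → K := fun x => if h : a x ∈ K then ⟨a x, h⟩ else 1
  have hg : ∀ x, x < 9 → x ≠ 1 → ((g x : K) : Spor.Fi22) = a x := fun x hx h1 => by
    simp only [g, dif_pos (hmem x hx h1)]
  have hb : ∀ p q, p < 9 → p ≠ 1 → q < 9 → q ≠ 1 →
      (relWords Spor.Fi22.edges Spor.Fi22.extra gens).contains [p, q, p, q, p, q] = true →
      (g q ∈ L ↔ g p ∈ L) := by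
    intro p q hp hp1 hq hq1 hr
    have h := relWord_one Fi22Group.nodes (List.contains_iff_mem.1 hr)
    simp only [List.map_cons, List.map_nil, List.prod_cons, List.prod_nil, mul_one] at h
    have e : g q = g p * g q * g p * (g p * g q)⁻¹ := by
      refine Subtype.ext ?_
      simp only [Subgroup.coe_mul, Subgroup.coe_inv, hg p hp hp1, hg q hq hq1, mul_inv_rev,
        inv_eq_of_mul_eq_one_right (a_sq p), inv_eq_of_mul_eq_one_right (a_sq q)]
      have h3 := congrArg (fun z => z * a q) h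
      simp only [one_mul, mul_assoc, a_sq, mul_one] at h3
      simp only [mul_assoc]
      exact h3.symm
    rw [e]
    exact mem_two h2 (g p * g q) (g p)
  have h3 := hb 2 3 (by omega) (by omega) (by omega) (by omega) (by decide +kernel)
  have h7 := hb 3 7 (by omega) (by omega) (by omega) (by omega) (by decide +kernel)
  have h8 := hb 7 8 (by omega) (by omega) (by omega) (by omega) (by decide +kernel)
  let kg : List ℕ → K := fun l => (l.map fun j => (⟨gj j, gj_mem j⟩ : K)).prod
  let conj : List ℕ × ℕ → K := fun p => kg p.1 * g p.2 * (kg p.1)⁻¹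
  have hP : ∀ z ∈ relData.map conj, (z ∈ L ↔ g 2 ∈ L) := by
    intro z hz
    obtain ⟨p, hp, rfl⟩ := List.mem_map.1 hz
    rw [mem_two h2]
    have : p.2 = 2 ∨ p.2 = 3 ∨ p.2 = 8 := by
      have := List.all_eq_true.1 (show relData.all (fun p => p.2 == 2 || p.2 == 3 || p.2 == 8) = true by decide) p hp
      simpa [or_assoc] using this
    rcases this with h | h | h <;> rw [h]
    exacts [h3, (h8.trans h7).trans h3]
  have hin := list_mem_two h2 _ _ hP (by decide)
  have hval : ((relData.map conj).prod : Spor.Fi22) = a 0 := by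
    have hkg : ∀ l : List ℕ, (kg l : Spor.Fi22) = ((l.flatMap genWord).map a).prod := by
      intro l
      induction l with
      | nil => rfl
      | cons j l ih =>
        simp only [kg, List.map_cons, List.prod_cons, List.flatMap_cons, List.map_append, List.prod_append,
          Subgroup.coe_mul] at ih ⊢
        rw [ih]
        rfl
    have hconj : ∀ p ∈ relData, (conj p : Spor.Fi22) = ((relWord p).map a).prod := by
      intro p hp
      have hp2 := List.all_eq_true.1 (show relData.all (fun p => decide (p.2 < 9) && decide (p.2 ≠ 1)) = true by decide) p hp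
      simp only [Bool.and_eq_true, decide_eq_true_eq] at hp2
      simp only [conj, Subgroup.coe_mul, Subgroup.coe_inv, hkg, hg _ hp2.1 hp2.2, relWord, List.map_append,
        List.prod_append, List.map_cons, List.map_nil, List.prod_cons, List.prod_nil, mul_one,
        prod_reverse_eq_inv a a_sq]
    rw [Subgroup.val_list_prod, List.map_map, List.map_congr_left (f := Subtype.val ∘ conj) (g := fun p => ((relWord p).map a).prod)
      (fun p hp => hconj p hp)]
    have hfl : (relData.map fun p => ((relWord p).map a).prod).prod = ((relData.flatMap relWord).map a).prod := by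
      rw [List.map_flatMap, List.flatMap, List.prod_flatten, List.map_map]
      rfl
    rw [hfl]
    refine card_and_faithful.2.1 (Equiv.ext fun c => ?_)
    have key : ∀ d, act ((relData.flatMap relWord).map a).prod (act (a 0) d) = d := fun d => by
      have h := trace_smul FiHat3510.valid fits d (relData.flatMap relWord)
      rw [Nat.eq_of_beq_eq_true (List.all_eq_true.1 rel_ok d (List.mem_range.2 d.2))] at h
      have h0 : FiHat3510.data.tab d 0 = ((act (a 0) d : Fin _) : ℕ) := by
        have h1 := trace_eq_act [0] d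
        rw [List.map_cons, List.map_nil, List.prod_cons, List.prod_nil, mul_one] at h1
        exact h1
      rw [h0] at h
      rw [Fin.ext h, map_inv, Equiv.Perm.coe_inv, Equiv.apply_symm_apply]
    have := key (act (a 0) c)
    rw [show act (a 0) (act (a 0) c) = c by rw [← Equiv.Perm.mul_apply, ← map_mul, a_sq, map_one, Equiv.Perm.one_apply]] at this
    exact this
  have ha : (⟨a 0, hmem 0 (by omega) (by omega)⟩ : K) ∈ Subgroup.center K := by
    rw [center_K, MonoidHom.mem_ker, proj_eq (k := ⟨a 0, hmem 0 (by omega) (by omega)⟩) (M := Mj 0)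
      (by show Rel (a 0) _; rw [← gj_zero]; exact rel_gj act0)]
    rfl
  have hin' : (⟨a 0, hmem 0 (by omega) (by omega)⟩ : K) ∈ L := by
    rwa [show (⟨a 0, hmem 0 (by omega) (by omega)⟩ : K) = (relData.map conj).prod from Subtype.ext hval.symm]
  have h1 := (Subgroup.disjoint_def.1 hL.disjoint) ha hin'
  have h0 : act (a 0) (⟨1, by decide⟩ : Fin FiHat3510.data.n) ≠ (⟨1, by decide⟩ : Fin FiHat3510.data.n) := by
    intro e
    have := trace_eq_act [0] (⟨1, by decide⟩ : Fin FiHat3510.data.n)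
    rw [List.map_cons, List.map_nil, List.prod_cons, List.prod_nil, mul_one, e] at this
    exact absurd this (by decide +kernel)
  exact h0 (by rw [show a 0 = 1 from congrArg Subtype.val h1, map_one]; rfl)

/-- The stabiliser is a non-split double cover of PSU(6, 2). -/
theorem double_cover : Cfsg.IsNonsplitDoubleCover K (Cfsg.PSU 6 F4 2) :=
  ⟨by rw [center_K, card_ker],
    ⟨(QuotientGroup.quotientMulEquivOfEq center_K).trans (QuotientGroup.quotientKerEquivOfSurjective proj proj_surjective)⟩,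
    nonsplit⟩

end CfsgLib.Recog.SporBound.Fi22U6
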