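import Cfsg.Agent.Lib.Recog.SporBound.Check

set_option autoImplicit false
set_option maxRecDepth 20000

/-! The 693 points adjacent to the first point of the rank 3 action of Fi22 as isotropic points of the unitary
space of dimension 6 over four elements; the six transpositions with product the first generator (owner: helper6). -/

namespace CfsgLib.Recog.SporBound.Fi22U6

def rowTree0 : SporBound.Q ℕ := (.node (.node (.node (.node (.leaf 0) (.leaf 0) (.leaf 0) (.leaf 0)) (.node (.leaf 0) (.leaf 0) (.leaf 0) (.leaf 0)) (.node (.leaf 0) (.leaf 0) (.leaf 0) (.leaf 0)) (.node (.leaf 0) (.leaf 0) (.leaf 0) (.leaf 0))) (.node (.node (.leaf 0) (.leaf 0) (.leaf 0) (.leaf 0)) (.node (.leaf 0) (.leaf 0) (.leaf 0) (.leaf 0)) (.node (.leaf 1757) (.leaf 0) (.leaf 3220) (.leaf 0)) (.node (.leaf 2317) (.leaf 0) (.leaf 0) (.leaf 0))) (.node (.node (.leaf 0) (.leaf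 0) (.leaf 1977) (.leaf 0)) (.node (.leaf 0) (.leaf 0) (.leaf 1844) (.leaf 0)) (.node (.leaf 0) (.leaf 0) (.leaf 0) (.leaf 0)) (.node (.leaf 0) (.leaf 0) (.leaf 0) (.leaf 0))) (.node (.node (.leaf 0) (.leaf 2593) (.leaf 0) (.leaf 0)) (.node (.leaf 1588) (.leaf 0) (.leaf 0) (.leaf 0)) (.node (.leaf 2353) (.leaf 1121) (.leaf 0) (.leaf 0)) (.node (.leaf 0) (.leaf 0) (.leaf 0) (.leaf 0)))) (.node (.node (.node (.leaf 0) (.leaf 3337) (.leaf 0) (.leaf 0)) (.node (.leaf 1525) (.leaf 0) (.leaf 0) (.leaf 0)) (.node (.leaf 0) (.leaf 0) (.leaf 0) (.leaf 0)) (.node (.leaf 0) (.leaf 329) (.leaf 0) (.leaf 0))) (.node (.node (.leaf 1877) (.leaf 0) (.leaf 0) (.leaf 0)) (.node (.leaf 1449) (.leaf 0) (.leaf 0) (.leaf 0)) (.node (.leaf 673) (.leaf 2753) (.leaf 0) (.leaf 0)) (.node (.leaf 0) (.leaf 0) (.leaf 0) (.leaf 0))) (.node (.node (.leaf 2245) (.leaf 825) (.leaf 0)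 (.leaf 0)) (.node (.leaf 0) (.leaf 0) (.leaf 0) (.leaf 0)) (.node (.leaf 0) (.leaf 0) (.leaf 0) (.leaf 0)) (.node (.leaf 3433) (.leaf 0) (.leaf 0) (.leaf 0))) (.node (.node (.leaf 0) (.leaf 0) (.leaf 1773) (.leaf 549)) (.node (.leaf 909) (.leaf 0) (.leaf 881) (.leaf 0)) (.node (.leaf 1049) (.leaf 2193) (.leaf 0) (.leaf 0)) (.node (.leaf 0) (.leaf 2448) (.leaf 0) (.leaf 0)))) (.node (.node (.node (.leaf 1028) (.leaf 0) (.leaf 0) (.leaf 0)) (.node (.leaf 1252) (.leaf 0) (.leaf 0) (.leaf 0)) (.node (.leaf 109) (.leaf 0) (.leaf 0) (.leaf 0)) (.node (.leaf 0) (.leaf 0) (.leaf 0) (.leaf 0))) (.node (.node (.leaf 0) (.leaf 0) (.leaf 0) (.leaf 0)) (.node (.leaf 3209) (.leaf 1985) (.leaf 0) (.leaf 0)) (.node (.leaf 0) (.leaf 0) (.leaf 0) (.leaf 0)) (.node (.leaf 1828) (.leaf 0) (.leaf 0) (.leaf 0))) (.node (.node (.leaf 0) (.leaf 756) (.leaf 0) (.leaf 0)) (.node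 (.leaf 0) (.leaf 0) (.leaf 0) (.leaf 0)) (.node (.leaf 0) (.leaf 0) (.leaf 0) (.leaf 0)) (.node (.leaf 0) (.leaf 0) (.leaf 0) (.leaf 0))) (.node (.node (.leaf 2533) (.leaf 0) (.leaf 0) (.leaf 0)) (.node (.leaf 0) (.leaf 0) (.leaf 0) (.leaf 0)) (.node (.leaf 676) (.leaf 0) (.leaf 0) (.leaf 0)) (.node (.leaf 0) (.leaf 0) (.leaf 0) (.leaf 0)))) (.node (.node (.node (.leaf 0) (.leaf 0) (.leaf 0) (.leaf 0)) (.node (.leaf 0) (.leaf 0) (.leaf 0) (.leaf 0)) (.node (.leaf 2612) (.leaf 0) (.leaf 913) (.leaf 0)) (.node (.leaf 0) (.leaf 0) (.leaf 0) (.leaf 0))) (.node (.node (.leaf 3925) (.leaf 0) (.leaf 0) (.leaf 0)) (.node (.leaf 3001) (.leaf 3493) (.leaf 0) (.leaf 0)) (.node (.leaf 0) (.leaf 0) (.leaf 0) (.leaf 0)) (.node (.leaf 3417) (.leaf 0) (.leaf 0) (.leaf 0))) (.node (.node (.leaf 2665) (.leaf 2304) (.leaf 0) (.leaf 0)) (.node (.leaf 2125) (.leaf 0) (.leaf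 0) (.leaf 0)) (.node (.leaf 809) (.leaf 0) (.leaf 0) (.leaf 0)) (.node (.leaf 0) (.leaf 0) (.leaf 0) (.leaf 0))) (.node (.node (.leaf 0) (.leaf 0) (.leaf 0) (.leaf 0)) (.node (.leaf 0) (.leaf 0) (.leaf 0) (.leaf 0)) (.node (.leaf 0) (.leaf 149) (.leaf 0) (.leaf 0)) (.node (.leaf 565) (.leaf 0) (.leaf 0) (.leaf 0)))))
def rowTree1 : SporBound.Q ℕ := (.node (.node (.node (.node (.leaf 0) (.leaf 3029) (.leaf 0) (.leaf 0)) (.node (.leaf 0) (.leaf 0) (.leaf 0) (.leaf 0)) (.node (.leaf 0) (.leaf 3777) (.leaf 0) (.leaf 0)) (.node (.leaf 0) (.leaf 0) (.leaf 0) (.leaf 0))) (.node (.node (.leaf 0) (.leaf 0) (.leaf 0) (.leaf 0)) (.node (.leaf 0) (.leaf 0) (.leaf 0) (.leaf 0)) (.node (.leaf 3837) (.leaf 3753) (.leaf 2973) (.leaf 0)) (.node (.leaf 569) (.leaf 0) (.leaf 0) (.leaf 0))) (.node (.node (.leaf 0) (.leaf 0) (.leaf 3277) (.leaf 0)) (.node (.leaf 0) (.leaf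 0) (.leaf 1936) (.leaf 0)) (.node (.leaf 0) (.leaf 0) (.leaf 0) (.leaf 0)) (.node (.leaf 3408) (.leaf 3437) (.leaf 0) (.leaf 0))) (.node (.node (.leaf 0) (.leaf 0) (.leaf 0) (.leaf 0)) (.node (.leaf 932) (.leaf 0) (.leaf 3460) (.leaf 0)) (.node (.leaf 3364) (.leaf 157) (.leaf 0) (.leaf 0)) (.node (.leaf 0) (.leaf 713) (.leaf 0) (.leaf 0)))) (.node (.node (.node (.leaf 0) (.leaf 1825) (.leaf 0) (.leaf 0)) (.node (.leaf 196) (.leaf 0) (.leaf 0) (.leaf 0)) (.node (.leaf 0) (.leaf 0) (.leaf 0) (.leaf 0)) (.node (.leaf 0) (.leaf 1268) (.leaf 0) (.leaf 0))) (.node (.node (.leaf 1300) (.leaf 0) (.leaf 0) (.leaf 0)) (.node (.leaf 0) (.leaf 3829) (.leaf 0) (.leaf 0)) (.node (.leaf 513) (.leaf 2433) (.leaf 0) (.leaf 0)) (.node (.leaf 2309) (.leaf 0) (.leaf 0) (.leaf 0))) (.node (.node (.leaf 721) (.leaf 2093) (.leaf 0) (.leaf 2565)) (.node (.leaf 0) (.leaf 0)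 (.leaf 0) (.leaf 0)) (.node (.leaf 0) (.leaf 0) (.leaf 0) (.leaf 0)) (.node (.leaf 33) (.leaf 0) (.leaf 0) (.leaf 0))) (.node (.node (.leaf 0) (.leaf 0) (.leaf 3821) (.leaf 0)) (.node (.leaf 2989) (.leaf 0) (.leaf 1572) (.leaf 0)) (.node (.leaf 2089) (.leaf 0) (.leaf 2313) (.leaf 0)) (.node (.leaf 0) (.leaf 0) (.leaf 0) (.leaf 0)))) (.node (.node (.node (.leaf 1641) (.leaf 0) (.leaf 0) (.leaf 0)) (.node (.leaf 481) (.leaf 0) (.leaf 0) (.leaf 0)) (.node (.leaf 453) (.leaf 0) (.leaf 0) (.leaf 0)) (.node (.leaf 0) (.leaf 0) (.leaf 0) (.leaf 0))) (.node (.node (.leaf 0) (.leaf 0) (.leaf 0) (.leaf 0)) (.node (.leaf 2852) (.leaf 0) (.leaf 0) (.leaf 0)) (.node (.leaf 0) (.leaf 0) (.leaf 0) (.leaf 0)) (.node (.leaf 0) (.leaf 0) (.leaf 0) (.leaf 0))) (.node (.node (.leaf 0) (.leaf 596) (.leaf 0) (.leaf 0)) (.node (.leaf 0) (.leaf 0) (.leaf 0) (.leaf 0)) (.node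 (.leaf 0) (.leaf 0) (.leaf 0) (.leaf 0)) (.node (.leaf 0) (.leaf 0) (.leaf 0) (.leaf 0))) (.node (.node (.leaf 3141) (.leaf 0) (.leaf 0) (.leaf 0)) (.node (.leaf 0) (.leaf 0) (.leaf 0) (.leaf 0)) (.node (.leaf 516) (.leaf 1945) (.leaf 0) (.leaf 0)) (.node (.leaf 2253) (.leaf 0) (.leaf 0) (.leaf 0)))) (.node (.node (.node (.leaf 0) (.leaf 0) (.leaf 0) (.leaf 0)) (.node (.leaf 0) (.leaf 0) (.leaf 0) (.leaf 0)) (.node (.leaf 173) (.leaf 0) (.leaf 3765) (.leaf 0)) (.node (.leaf 0) (.leaf 0) (.leaf 0) (.leaf 0))) (.node (.node (.leaf 3477) (.leaf 0) (.leaf 0) (.leaf 0)) (.node (.leaf 2512) (.leaf 784) (.leaf 0) (.leaf 0)) (.node (.leaf 0) (.leaf 0) (.leaf 0) (.leaf 0)) (.node (.leaf 0) (.leaf 0) (.leaf 0) (.leaf 0))) (.node (.node (.leaf 1437) (.leaf 3733) (.leaf 0) (.leaf 0)) (.node (.leaf 2645) (.leaf 0) (.leaf 0) (.leaf 0)) (.node (.leaf 0) (.leaf 0)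 (.leaf 0) (.leaf 0)) (.node (.leaf 0) (.leaf 0) (.leaf 0) (.leaf 0))) (.node (.node (.leaf 0) (.leaf 0) (.leaf 0) (.leaf 0)) (.node (.leaf 0) (.leaf 0) (.leaf 0) (.leaf 0)) (.node (.leaf 0) (.leaf 144) (.leaf 0) (.leaf 0)) (.node (.leaf 2077) (.leaf 0) (.leaf 0) (.leaf 0)))))
def rowTree2 : SporBound.Q ℕ := (.node (.node (.node (.node (.leaf 0) (.leaf 1717) (.leaf 0) (.leaf 0)) (.node (.leaf 0) (.leaf 0) (.leaf 0) (.leaf 0)) (.node (.leaf 0) (.leaf 3949) (.leaf 0) (.leaf 0)) (.node (.leaf 0) (.leaf 0) (.leaf 0) (.leaf 0))) (.node (.node (.leaf 0) (.leaf 3037) (.leaf 0) (.leaf 0)) (.node (.leaf 0) (.leaf 0) (.leaf 0) (.leaf 0)) (.node (.leaf 0) (.leaf 353) (.leaf 0) (.leaf 0)) (.node (.leaf 0) (.leaf 0) (.leaf 0) (.leaf 0))) (.node (.node (.leaf 0) (.leaf 0) (.leaf 612) (.leaf 0)) (.node (.leaf 0) (.leaf 3009) (.leaf 0) (.leaf 0)) (.node (.leaf 0) (.leaf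 0) (.leaf 1841) (.leaf 0)) (.node (.leaf 1616) (.leaf 2196) (.leaf 0) (.leaf 0))) (.node (.node (.leaf 0) (.leaf 0) (.leaf 3472) (.leaf 0)) (.node (.leaf 2945) (.leaf 49) (.leaf 3813) (.leaf 0)) (.node (.leaf 0) (.leaf 3524) (.leaf 0) (.leaf 0)) (.node (.leaf 0) (.leaf 2273) (.leaf 0) (.leaf 0)))) (.node (.node (.node (.leaf 0) (.leaf 2569) (.leaf 0) (.leaf 0)) (.node (.leaf 4025) (.leaf 0) (.leaf 0) (.leaf 0)) (.node (.leaf 0) (.leaf 0) (.leaf 0) (.leaf 0)) (.node (.leaf 0) (.leaf 125) (.leaf 0) (.leaf 0))) (.node (.node (.leaf 1369) (.leaf 0) (.leaf 0) (.leaf 0)) (.node (.leaf 0) (.leaf 0) (.leaf 0) (.leaf 0)) (.node (.leaf 2413) (.leaf 0) (.leaf 0) (.leaf 0)) (.node (.leaf 0) (.leaf 0) (.leaf 0) (.leaf 0))) (.node (.node (.leaf 0) (.leaf 0) (.leaf 0) (.leaf 0)) (.node (.leaf 0) (.leaf 0) (.leaf 0) (.leaf 0)) (.node (.leaf 0) (.leaf 0) (.leaf 0) (.leaf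 0)) (.node (.leaf 0) (.leaf 0) (.leaf 0) (.leaf 0))) (.node (.node (.leaf 0) (.leaf 0) (.leaf 884) (.leaf 0)) (.node (.leaf 2209) (.leaf 0) (.leaf 0) (.leaf 0)) (.node (.leaf 0) (.leaf 0) (.leaf 0) (.leaf 0)) (.node (.leaf 0) (.leaf 0) (.leaf 0) (.leaf 0)))) (.node (.node (.node (.leaf 1360) (.leaf 0) (.leaf 0) (.leaf 0)) (.node (.leaf 1744) (.leaf 0) (.leaf 0) (.leaf 0)) (.node (.leaf 3617) (.leaf 0) (.leaf 0) (.leaf 0)) (.node (.leaf 0) (.leaf 737) (.leaf 0) (.leaf 0))) (.node (.node (.leaf 0) (.leaf 0) (.leaf 0) (.leaf 0)) (.node (.leaf 929) (.leaf 0) (.leaf 0) (.leaf 0)) (.node (.leaf 0) (.leaf 1629) (.leaf 0) (.leaf 0)) (.node (.leaf 0) (.leaf 0) (.leaf 0) (.leaf 0))) (.node (.node (.leaf 0) (.leaf 1453) (.leaf 0) (.leaf 0)) (.node (.leaf 0) (.leaf 0) (.leaf 0) (.leaf 0)) (.node (.leaf 0) (.leaf 0) (.leaf 0) (.leaf 0)) (.node (.leaf 0) (.leaf 0)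 (.leaf 0) (.leaf 0))) (.node (.node (.leaf 217) (.leaf 0) (.leaf 0) (.leaf 0)) (.node (.leaf 0) (.leaf 0) (.leaf 0) (.leaf 0)) (.node (.leaf 2041) (.leaf 2249) (.leaf 0) (.leaf 0)) (.node (.leaf 841) (.leaf 0) (.leaf 0) (.leaf 0)))) (.node (.node (.node (.leaf 1093) (.leaf 0) (.leaf 0) (.leaf 0)) (.node (.leaf 0) (.leaf 0) (.leaf 0) (.leaf 0)) (.node (.leaf 2356) (.leaf 0) (.leaf 0) (.leaf 0)) (.node (.leaf 0) (.leaf 0) (.leaf 0) (.leaf 0))) (.node (.node (.leaf 709) (.leaf 0) (.leaf 0) (.leaf 0)) (.node (.leaf 576) (.leaf 789) (.leaf 0) (.leaf 0)) (.node (.leaf 0) (.leaf 0) (.leaf 0) (.leaf 0)) (.node (.leaf 0) (.leaf 0) (.leaf 0) (.leaf 0))) (.node (.node (.leaf 3445) (.leaf 0) (.leaf 0) (.leaf 0)) (.node (.leaf 1221) (.leaf 0) (.leaf 0) (.leaf 0)) (.node (.leaf 3652) (.leaf 2109) (.leaf 0) (.leaf 0)) (.node (.leaf 0) (.leaf 0) (.leaf 0) (.leaf 0)))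 (.node (.node (.leaf 0) (.leaf 0) (.leaf 0) (.leaf 0)) (.node (.leaf 0) (.leaf 0) (.leaf 0) (.leaf 0)) (.node (.leaf 0) (.leaf 2933) (.leaf 0) (.leaf 0)) (.node (.leaf 0) (.leaf 0) (.leaf 0) (.leaf 0)))))
def rowTree3 : SporBound.Q ℕ := (.node (.node (.node (.node (.leaf 0) (.leaf 2069) (.leaf 0) (.leaf 0)) (.node (.leaf 0) (.leaf 0) (.leaf 0) (.leaf 0)) (.node (.leaf 0) (.leaf 2129) (.leaf 0) (.leaf 0)) (.node (.leaf 0) (.leaf 0) (.leaf 0) (.leaf 0))) (.node (.node (.leaf 0) (.leaf 36) (.leaf 0) (.leaf 0)) (.node (.leaf 0) (.leaf 3509) (.leaf 0) (.leaf 0)) (.node (.leaf 1860) (.leaf 4073) (.leaf 2625) (.leaf 0)) (.node (.leaf 3172) (.leaf 0) (.leaf 0) (.leaf 0))) (.node (.node (.leaf 0) (.leaf 0) (.leaf 832) (.leaf 0)) (.node (.leaf 0) (.leaf 2745) (.leaf 0) (.leaf 0)) (.node (.leaf 0) (.leaf 2181) (.leaf 1924) (.leaf 0)) (.node (.leaf 4057) (.leaf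 0) (.leaf 0) (.leaf 0))) (.node (.node (.leaf 0) (.leaf 0) (.leaf 3929) (.leaf 0)) (.node (.leaf 1289) (.leaf 0) (.leaf 2813) (.leaf 0)) (.node (.leaf 2228) (.leaf 0) (.leaf 3801) (.leaf 0)) (.node (.leaf 0) (.leaf 3693) (.leaf 0) (.leaf 0)))) (.node (.node (.node (.leaf 0) (.leaf 0) (.leaf 0) (.leaf 0)) (.node (.leaf 1405) (.leaf 0) (.leaf 0) (.leaf 0)) (.node (.leaf 0) (.leaf 0) (.leaf 0) (.leaf 0)) (.node (.leaf 0) (.leaf 0) (.leaf 0) (.leaf 0))) (.node (.node (.leaf 1297) (.leaf 0) (.leaf 0) (.leaf 0)) (.node (.leaf 2713) (.leaf 0) (.leaf 0) (.leaf 0)) (.node (.leaf 1657) (.leaf 0) (.leaf 0) (.leaf 0)) (.node (.leaf 0) (.leaf 0) (.leaf 0) (.leaf 0))) (.node (.node (.leaf 0) (.leaf 0) (.leaf 0) (.leaf 0)) (.node (.leaf 0) (.leaf 0) (.leaf 0) (.leaf 0)) (.node (.leaf 0) (.leaf 0) (.leaf 0) (.leaf 0)) (.node (.leaf 0) (.leaf 3709) (.leaf 0) (.leaf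 0))) (.node (.node (.leaf 0) (.leaf 3012) (.leaf 0) (.leaf 821)) (.node (.leaf 649) (.leaf 0) (.leaf 0) (.leaf 0)) (.node (.leaf 0) (.leaf 0) (.leaf 0) (.leaf 0)) (.node (.leaf 0) (.leaf 0) (.leaf 0) (.leaf 0)))) (.node (.node (.node (.leaf 2649) (.leaf 0) (.leaf 0) (.leaf 0)) (.node (.leaf 2500) (.leaf 0) (.leaf 0) (.leaf 0)) (.node (.leaf 2161) (.leaf 0) (.leaf 0) (.leaf 0)) (.node (.leaf 0) (.leaf 2477) (.leaf 0) (.leaf 0))) (.node (.node (.leaf 0) (.leaf 0) (.leaf 0) (.leaf 0)) (.node (.leaf 3853) (.leaf 0) (.leaf 0) (.leaf 0)) (.node (.leaf 0) (.leaf 1709) (.leaf 0) (.leaf 0)) (.node (.leaf 3300) (.leaf 0) (.leaf 0) (.leaf 0))) (.node (.node (.leaf 0) (.leaf 0) (.leaf 0) (.leaf 0)) (.node (.leaf 0) (.leaf 3333) (.leaf 0) (.leaf 0)) (.node (.leaf 0) (.leaf 0) (.leaf 0) (.leaf 0)) (.node (.leaf 0) (.leaf 0) (.leaf 0) (.leaf 0))) (.node (.node (.leaf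 93) (.leaf 0) (.leaf 0) (.leaf 0)) (.node (.leaf 0) (.leaf 0) (.leaf 0) (.leaf 0)) (.node (.leaf 0) (.leaf 3316) (.leaf 0) (.leaf 0)) (.node (.leaf 1789) (.leaf 0) (.leaf 0) (.leaf 0)))) (.node (.node (.node (.leaf 3573) (.leaf 0) (.leaf 0) (.leaf 0)) (.node (.leaf 0) (.leaf 0) (.leaf 0) (.leaf 0)) (.node (.leaf 3236) (.leaf 573) (.leaf 0) (.leaf 0)) (.node (.leaf 0) (.leaf 0) (.leaf 0) (.leaf 0))) (.node (.node (.leaf 0) (.leaf 0) (.leaf 0) (.leaf 0)) (.node (.leaf 2653) (.leaf 2965) (.leaf 0) (.leaf 0)) (.node (.leaf 0) (.leaf 0) (.leaf 0) (.leaf 0)) (.node (.leaf 0) (.leaf 0) (.leaf 0) (.leaf 0))) (.node (.node (.leaf 1765) (.leaf 0) (.leaf 0) (.leaf 0)) (.node (.leaf 2849) (.leaf 0) (.leaf 0) (.leaf 0)) (.node (.leaf 2881) (.leaf 2429) (.leaf 0) (.leaf 0)) (.node (.leaf 0) (.leaf 0) (.leaf 0) (.leaf 0))) (.node (.node (.leaf 0) (.leaf 0) (.leaf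 845) (.leaf 0)) (.node (.leaf 0) (.leaf 0) (.leaf 0) (.leaf 0)) (.node (.leaf 0) (.leaf 1680) (.leaf 0) (.leaf 0)) (.node (.leaf 0) (.leaf 0) (.leaf 0) (.leaf 0)))))
def rowTree4 : SporBound.Q ℕ := (.node (.node (.node (.node (.leaf 0) (.leaf 1409) (.leaf 0) (.leaf 0)) (.node (.leaf 0) (.leaf 0) (.leaf 0) (.leaf 0)) (.node (.leaf 0) (.leaf 1988) (.leaf 0) (.leaf 0)) (.node (.leaf 0) (.leaf 0) (.leaf 0) (.leaf 0))) (.node (.node (.leaf 0) (.leaf 0) (.leaf 0) (.leaf 0)) (.node (.leaf 0) (.leaf 1949) (.leaf 0) (.leaf 0)) (.node (.leaf 3393) (.leaf 3284) (.leaf 3860) (.leaf 0)) (.node (.leaf 865) (.leaf 0) (.leaf 0) (.leaf 0))) (.node (.node (.leaf 0) (.leaf 0) (.leaf 0) (.leaf 0)) (.node (.leaf 0) (.leaf 2369) (.leaf 0) (.leaf 0)) (.node (.leaf 0) (.leaf 4033) (.leaf 3045) (.leaf 0)) (.node (.leaf 0) (.leaf 0) (.leaf 0) (.leaf 0))) (.node (.node (.leaf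 0) (.leaf 993) (.leaf 3920) (.leaf 0)) (.node (.leaf 829) (.leaf 0) (.leaf 3908) (.leaf 0)) (.node (.leaf 689) (.leaf 0) (.leaf 0) (.leaf 0)) (.node (.leaf 0) (.leaf 3313) (.leaf 0) (.leaf 0)))) (.node (.node (.node (.leaf 0) (.leaf 0) (.leaf 0) (.leaf 0)) (.node (.leaf 2045) (.leaf 0) (.leaf 0) (.leaf 0)) (.node (.leaf 0) (.leaf 0) (.leaf 0) (.leaf 0)) (.node (.leaf 0) (.leaf 0) (.leaf 0) (.leaf 0))) (.node (.node (.leaf 4093) (.leaf 0) (.leaf 0) (.leaf 0)) (.node (.leaf 2393) (.leaf 0) (.leaf 0) (.leaf 0)) (.node (.leaf 0) (.leaf 0) (.leaf 0) (.leaf 0)) (.node (.leaf 0) (.leaf 0) (.leaf 0) (.leaf 0))) (.node (.node (.leaf 0) (.leaf 2289) (.leaf 0) (.leaf 0)) (.node (.leaf 0) (.leaf 0) (.leaf 0) (.leaf 0)) (.node (.leaf 0) (.leaf 0) (.leaf 0) (.leaf 0)) (.node (.leaf 0) (.leaf 1165) (.leaf 0) (.leaf 0))) (.node (.node (.leaf 0) (.leaf 1389) (.leaf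 0) (.leaf 0)) (.node (.leaf 3769) (.leaf 0) (.leaf 0) (.leaf 0)) (.node (.leaf 0) (.leaf 0) (.leaf 1569) (.leaf 0)) (.node (.leaf 0) (.leaf 0) (.leaf 0) (.leaf 0)))) (.node (.node (.node (.leaf 0) (.leaf 0) (.leaf 0) (.leaf 0)) (.node (.leaf 4009) (.leaf 0) (.leaf 0) (.leaf 0)) (.node (.leaf 213) (.leaf 0) (.leaf 0) (.leaf 0)) (.node (.leaf 0) (.leaf 417) (.leaf 0) (.leaf 0))) (.node (.node (.leaf 0) (.leaf 0) (.leaf 3449) (.leaf 0)) (.node (.leaf 1517) (.leaf 0) (.leaf 0) (.leaf 0)) (.node (.leaf 0) (.leaf 1012) (.leaf 0) (.leaf 0)) (.node (.leaf 692) (.leaf 0) (.leaf 0) (.leaf 0))) (.node (.node (.leaf 0) (.leaf 0) (.leaf 0) (.leaf 0)) (.node (.leaf 0) (.leaf 1653) (.leaf 0) (.leaf 0)) (.node (.leaf 0) (.leaf 0) (.leaf 0) (.leaf 0)) (.node (.leaf 0) (.leaf 0) (.leaf 0) (.leaf 0))) (.node (.node (.leaf 2260) (.leaf 0) (.leaf 0) (.leaf 0)) (.node (.leaf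 0) (.leaf 0) (.leaf 0) (.leaf 0)) (.node (.leaf 0) (.leaf 497) (.leaf 0) (.leaf 0)) (.node (.leaf 1897) (.leaf 0) (.leaf 0) (.leaf 0)))) (.node (.node (.node (.leaf 1533) (.leaf 0) (.leaf 0) (.leaf 0)) (.node (.leaf 0) (.leaf 0) (.leaf 0) (.leaf 0)) (.node (.leaf 2225) (.leaf 1332) (.leaf 0) (.leaf 0)) (.node (.leaf 0) (.leaf 0) (.leaf 0) (.leaf 0))) (.node (.node (.leaf 0) (.leaf 0) (.leaf 0) (.leaf 0)) (.node (.leaf 0) (.leaf 389) (.leaf 0) (.leaf 0)) (.node (.leaf 0) (.leaf 0) (.leaf 0) (.leaf 0)) (.node (.leaf 1061) (.leaf 0) (.leaf 0) (.leaf 0))) (.node (.node (.leaf 229) (.leaf 0) (.leaf 0) (.leaf 0)) (.node (.leaf 625) (.leaf 0) (.leaf 0) (.leaf 0)) (.node (.leaf 3969) (.leaf 660) (.leaf 0) (.leaf 0)) (.node (.leaf 0) (.leaf 0) (.leaf 0) (.leaf 0))) (.node (.node (.leaf 0) (.leaf 0) (.leaf 3185) (.leaf 0)) (.node (.leaf 0) (.leaf 1973) (.leaf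 2337) (.leaf 0)) (.node (.leaf 0) (.leaf 0) (.leaf 0) (.leaf 0)) (.node (.leaf 0) (.leaf 0) (.leaf 0) (.leaf 0)))))
def rowTree5 : SporBound.Q ℕ := (.node (.node (.node (.node (.leaf 0) (.leaf 404) (.leaf 0) (.leaf 0)) (.node (.leaf 0) (.leaf 0) (.leaf 0) (.leaf 0)) (.node (.leaf 0) (.leaf 0) (.leaf 0) (.leaf 0)) (.node (.leaf 0) (.leaf 0) (.leaf 0) (.leaf 0))) (.node (.node (.leaf 0) (.leaf 9) (.leaf 0) (.leaf 0)) (.node (.leaf 0) (.leaf 4029) (.leaf 0) (.leaf 0)) (.node (.leaf 0) (.leaf 0) (.leaf 0) (.leaf 0)) (.node (.leaf 2557) (.leaf 0) (.leaf 0) (.leaf 0))) (.node (.node (.leaf 0) (.leaf 0) (.leaf 0) (.leaf 0)) (.node (.leaf 0) (.leaf 980) (.leaf 0) (.leaf 0)) (.node (.leaf 0) (.leaf 221) (.leaf 0) (.leaf 0)) (.node (.leaf 0) (.leaf 0) (.leaf 0) (.leaf 0))) (.node (.node (.leaf 0) (.leaf 1601) (.leaf 2805) (.leaf 0)) (.node (.leaf 0) (.leaf 0)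 (.leaf 0) (.leaf 0)) (.node (.leaf 0) (.leaf 0) (.leaf 3905) (.leaf 0)) (.node (.leaf 0) (.leaf 461) (.leaf 0) (.leaf 0)))) (.node (.node (.node (.leaf 0) (.leaf 0) (.leaf 0) (.leaf 0)) (.node (.leaf 2521) (.leaf 0) (.leaf 0) (.leaf 0)) (.node (.leaf 0) (.leaf 0) (.leaf 0) (.leaf 0)) (.node (.leaf 0) (.leaf 0) (.leaf 0) (.leaf 0))) (.node (.node (.leaf 272) (.leaf 0) (.leaf 0) (.leaf 0)) (.node (.leaf 1981) (.leaf 1081) (.leaf 3188) (.leaf 0)) (.node (.leaf 0) (.leaf 0) (.leaf 0) (.leaf 0)) (.node (.leaf 2021) (.leaf 0) (.leaf 0) (.leaf 0))) (.node (.node (.leaf 0) (.leaf 717) (.leaf 0) (.leaf 0)) (.node (.leaf 0) (.leaf 0) (.leaf 0) (.leaf 0)) (.node (.leaf 0) (.leaf 0) (.leaf 0) (.leaf 0)) (.node (.leaf 0) (.leaf 1097) (.leaf 0) (.leaf 0))) (.node (.node (.leaf 2469) (.leaf 2372) (.leaf 0) (.leaf 0)) (.node (.leaf 948) (.leaf 0) (.leaf 0) (.leaf 0))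 (.node (.leaf 1781) (.leaf 0) (.leaf 0) (.leaf 0)) (.node (.leaf 0) (.leaf 0) (.leaf 0) (.leaf 0)))) (.node (.node (.node (.leaf 0) (.leaf 3024) (.leaf 2121) (.leaf 0)) (.node (.leaf 0) (.leaf 0) (.leaf 0) (.leaf 0)) (.node (.leaf 3685) (.leaf 0) (.leaf 0) (.leaf 0)) (.node (.leaf 0) (.leaf 3945) (.leaf 0) (.leaf 0))) (.node (.node (.leaf 0) (.leaf 0) (.leaf 1188) (.leaf 0)) (.node (.leaf 3689) (.leaf 3109) (.leaf 0) (.leaf 0)) (.node (.leaf 0) (.leaf 1265) (.leaf 0) (.leaf 0)) (.node (.leaf 4077) (.leaf 0) (.leaf 0) (.leaf 0))) (.node (.node (.leaf 0) (.leaf 0) (.leaf 0) (.leaf 0)) (.node (.leaf 0) (.leaf 0) (.leaf 0) (.leaf 0)) (.node (.leaf 0) (.leaf 0) (.leaf 0) (.leaf 0)) (.node (.leaf 0) (.leaf 0) (.leaf 0) (.leaf 0))) (.node (.node (.leaf 1249) (.leaf 0) (.leaf 0) (.leaf 0)) (.node (.leaf 0) (.leaf 0) (.leaf 0) (.leaf 0)) (.node (.leaf 0) (.leaf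 2685) (.leaf 0) (.leaf 0)) (.node (.leaf 0) (.leaf 0) (.leaf 0) (.leaf 0)))) (.node (.node (.node (.leaf 68) (.leaf 0) (.leaf 0) (.leaf 0)) (.node (.leaf 0) (.leaf 0) (.leaf 0) (.leaf 0)) (.node (.leaf 1585) (.leaf 2909) (.leaf 0) (.leaf 0)) (.node (.leaf 0) (.leaf 0) (.leaf 0) (.leaf 0))) (.node (.node (.leaf 0) (.leaf 0) (.leaf 0) (.leaf 0)) (.node (.leaf 0) (.leaf 1169) (.leaf 0) (.leaf 0)) (.node (.leaf 0) (.leaf 0) (.leaf 0) (.leaf 0)) (.node (.leaf 3797) (.leaf 0) (.leaf 0) (.leaf 0))) (.node (.node (.leaf 117) (.leaf 0) (.leaf 0) (.leaf 0)) (.node (.leaf 2005) (.leaf 0) (.leaf 0) (.leaf 0)) (.node (.leaf 0) (.leaf 0) (.leaf 0) (.leaf 0)) (.node (.leaf 0) (.leaf 0) (.leaf 0) (.leaf 0))) (.node (.node (.leaf 0) (.leaf 3061) (.leaf 0) (.leaf 0)) (.node (.leaf 0) (.leaf 581) (.leaf 0) (.leaf 0)) (.node (.leaf 0) (.leaf 0) (.leaf 0) (.leaf 0)) (.node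 (.leaf 2896) (.leaf 3833) (.leaf 0) (.leaf 0)))))
def rowTree6 : SporBound.Q ℕ := (.node (.node (.node (.node (.leaf 0) (.leaf 0) (.leaf 0) (.leaf 0)) (.node (.leaf 0) (.leaf 0) (.leaf 0) (.leaf 0)) (.node (.leaf 0) (.leaf 0) (.leaf 0) (.leaf 0)) (.node (.leaf 0) (.leaf 0) (.leaf 0) (.leaf 0))) (.node (.node (.leaf 0) (.leaf 0) (.leaf 0) (.leaf 0)) (.node (.leaf 0) (.leaf 0) (.leaf 0) (.leaf 0)) (.node (.leaf 0) (.leaf 0) (.leaf 0) (.leaf 0)) (.node (.leaf 0) (.leaf 0) (.leaf 0) (.leaf 0))) (.node (.node (.leaf 0) (.leaf 0) (.leaf 0) (.leaf 0)) (.node (.leaf 0) (.leaf 0) (.leaf 0) (.leaf 0)) (.node (.leaf 0) (.leaf 0) (.leaf 0) (.leaf 0)) (.node (.leaf 0) (.leaf 0) (.leaf 0) (.leaf 0))) (.node (.node (.leaf 0) (.leaf 2733) (.leaf 0) (.leaf 2073)) (.node (.leaf 2525) (.leaf 0) (.leaf 0) (.leaf 0)) (.node (.leaf 3601) (.leaf 645) (.leaf 2580) (.leaf 0))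 (.node (.leaf 0) (.leaf 0) (.leaf 0) (.leaf 0)))) (.node (.node (.node (.leaf 0) (.leaf 996) (.leaf 0) (.leaf 0)) (.node (.leaf 1236) (.leaf 0) (.leaf 0) (.leaf 0)) (.node (.leaf 0) (.leaf 0) (.leaf 0) (.leaf 0)) (.node (.leaf 0) (.leaf 0) (.leaf 0) (.leaf 0))) (.node (.node (.leaf 1429) (.leaf 0) (.leaf 0) (.leaf 0)) (.node (.leaf 1637) (.leaf 2969) (.leaf 0) (.leaf 0)) (.node (.leaf 0) (.leaf 0) (.leaf 0) (.leaf 0)) (.node (.leaf 533) (.leaf 0) (.leaf 0) (.leaf 0))) (.node (.node (.leaf 0) (.leaf 2797) (.leaf 0) (.leaf 0)) (.node (.leaf 0) (.leaf 0) (.leaf 0) (.leaf 0)) (.node (.leaf 0) (.leaf 0) (.leaf 0) (.leaf 0)) (.node (.leaf 0) (.leaf 500) (.leaf 0) (.leaf 0))) (.node (.node (.leaf 1689) (.leaf 977) (.leaf 0) (.leaf 0)) (.node (.leaf 1556) (.leaf 0) (.leaf 0) (.leaf 0)) (.node (.leaf 1541) (.leaf 0) (.leaf 0) (.leaf 0)) (.node (.leaf 0) (.leaf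 0) (.leaf 0) (.leaf 0)))) (.node (.node (.node (.leaf 0) (.leaf 3429) (.leaf 0) (.leaf 0)) (.node (.leaf 0) (.leaf 0) (.leaf 0) (.leaf 0)) (.node (.leaf 2825) (.leaf 0) (.leaf 0) (.leaf 0)) (.node (.leaf 0) (.leaf 0) (.leaf 0) (.leaf 0))) (.node (.node (.leaf 0) (.leaf 0) (.leaf 0) (.leaf 0)) (.node (.leaf 849) (.leaf 0) (.leaf 0) (.leaf 0)) (.node (.leaf 0) (.leaf 153) (.leaf 0) (.leaf 0)) (.node (.leaf 0) (.leaf 0) (.leaf 0) (.leaf 0))) (.node (.node (.leaf 0) (.leaf 0) (.leaf 0) (.leaf 0)) (.node (.leaf 0) (.leaf 0) (.leaf 0) (.leaf 0)) (.node (.leaf 1493) (.leaf 0) (.leaf 0) (.leaf 0)) (.node (.leaf 0) (.leaf 0) (.leaf 0) (.leaf 0))) (.node (.node (.leaf 1732) (.leaf 0) (.leaf 0) (.leaf 0)) (.node (.leaf 0) (.leaf 0) (.leaf 0) (.leaf 0)) (.node (.leaf 0) (.leaf 0) (.leaf 0) (.leaf 0)) (.node (.leaf 301) (.leaf 0) (.leaf 0) (.leaf 0)))) (.node (.node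 (.node (.leaf 257) (.leaf 0) (.leaf 0) (.leaf 0)) (.node (.leaf 0) (.leaf 0) (.leaf 0) (.leaf 0)) (.node (.leaf 3604) (.leaf 1668) (.leaf 0) (.leaf 0)) (.node (.leaf 0) (.leaf 0) (.leaf 0) (.leaf 0))) (.node (.node (.leaf 0) (.leaf 0) (.leaf 0) (.leaf 0)) (.node (.leaf 0) (.leaf 129) (.leaf 0) (.leaf 0)) (.node (.leaf 0) (.leaf 0) (.leaf 0) (.leaf 0)) (.node (.leaf 1053) (.leaf 0) (.leaf 0) (.leaf 0))) (.node (.node (.leaf 2257) (.leaf 0) (.leaf 0) (.leaf 0)) (.node (.leaf 2112) (.leaf 0) (.leaf 0) (.leaf 0)) (.node (.leaf 2321) (.leaf 0) (.leaf 0) (.leaf 0)) (.node (.leaf 0) (.leaf 0) (.leaf 0) (.leaf 0))) (.node (.node (.leaf 0) (.leaf 4048) (.leaf 2145) (.leaf 0)) (.node (.leaf 0) (.leaf 1497) (.leaf 0) (.leaf 0)) (.node (.leaf 0) (.leaf 0) (.leaf 0) (.leaf 0)) (.node (.leaf 3328) (.leaf 3053) (.leaf 0) (.leaf 0)))))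
def rowTree7 : SporBound.Q ℕ := (.node (.node (.node (.node (.leaf 337) (.leaf 2865) (.leaf 0) (.leaf 0)) (.node (.leaf 0) (.leaf 0) (.leaf 0) (.leaf 0)) (.node (.leaf 0) (.leaf 2981) (.leaf 0) (.leaf 0)) (.node (.leaf 0) (.leaf 0) (.leaf 0) (.leaf 0))) (.node (.node (.leaf 0) (.leaf 0) (.leaf 0) (.leaf 0)) (.node (.leaf 0) (.leaf 813) (.leaf 0) (.leaf 2085)) (.node (.leaf 2212) (.leaf 0) (.leaf 0) (.leaf 0)) (.node (.leaf 541) (.leaf 0) (.leaf 0) (.leaf 0))) (.node (.node (.leaf 320) (.leaf 0) (.leaf 0) (.leaf 0)) (.node (.leaf 0) (.leaf 0) (.leaf 0) (.leaf 0)) (.node (.leaf 0) (.leaf 0) (.leaf 0) (.leaf 0)) (.node (.leaf 0) (.leaf 0) (.leaf 0) (.leaf 0))) (.node (.node (.leaf 0) (.leaf 0) (.leaf 0) (.leaf 3101)) (.node (.leaf 2921) (.leaf 0) (.leaf 0) (.leaf 0)) (.node (.leaf 2836) (.leaf 0) (.leaf 0) (.leaf 0)) (.node (.leaf 0) (.leaf 0) (.leaf 0)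 (.leaf 0)))) (.node (.node (.node (.leaf 0) (.leaf 1604) (.leaf 0) (.leaf 0)) (.node (.leaf 905) (.leaf 0) (.leaf 0) (.leaf 0)) (.node (.leaf 0) (.leaf 0) (.leaf 0) (.leaf 0)) (.node (.leaf 0) (.leaf 0) (.leaf 0) (.leaf 0))) (.node (.node (.leaf 2453) (.leaf 0) (.leaf 0) (.leaf 0)) (.node (.leaf 1233) (.leaf 0) (.leaf 0) (.leaf 0)) (.node (.leaf 0) (.leaf 0) (.leaf 0) (.leaf 0)) (.node (.leaf 1693) (.leaf 0) (.leaf 0) (.leaf 0))) (.node (.node (.leaf 0) (.leaf 0) (.leaf 0) (.leaf 0)) (.node (.leaf 0) (.leaf 0) (.leaf 0) (.leaf 0)) (.node (.leaf 0) (.leaf 0) (.leaf 0) (.leaf 0)) (.node (.leaf 0) (.leaf 3993) (.leaf 0) (.leaf 0))) (.node (.node (.leaf 2729) (.leaf 0) (.leaf 0) (.leaf 0)) (.node (.leaf 1645) (.leaf 0) (.leaf 0) (.leaf 0)) (.node (.leaf 1881) (.leaf 0) (.leaf 0) (.leaf 0)) (.node (.leaf 0) (.leaf 0) (.leaf 0) (.leaf 0)))) (.node (.node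 (.node (.leaf 0) (.leaf 2064) (.leaf 0) (.leaf 0)) (.node (.leaf 0) (.leaf 0) (.leaf 0) (.leaf 0)) (.node (.leaf 628) (.leaf 0) (.leaf 0) (.leaf 0)) (.node (.leaf 0) (.leaf 0) (.leaf 916) (.leaf 0))) (.node (.node (.leaf 0) (.leaf 0) (.leaf 0) (.leaf 0)) (.node (.leaf 3156) (.leaf 0) (.leaf 0) (.leaf 0)) (.node (.leaf 0) (.leaf 0) (.leaf 0) (.leaf 0)) (.node (.leaf 0) (.leaf 0) (.leaf 0) (.leaf 0))) (.node (.node (.leaf 0) (.leaf 2101) (.leaf 0) (.leaf 0)) (.node (.leaf 0) (.leaf 0) (.leaf 0) (.leaf 0)) (.node (.leaf 2789) (.leaf 0) (.leaf 0) (.leaf 0)) (.node (.leaf 0) (.leaf 0) (.leaf 0) (.leaf 0))) (.node (.node (.leaf 2497) (.leaf 0) (.leaf 0) (.leaf 0)) (.node (.leaf 0) (.leaf 0) (.leaf 0) (.leaf 0)) (.node (.leaf 0) (.leaf 0) (.leaf 0) (.leaf 0)) (.node (.leaf 2105) (.leaf 0) (.leaf 0) (.leaf 0)))) (.node (.node (.node (.leaf 2013) (.leaf 0) (.leaf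 0) (.leaf 0)) (.node (.leaf 0) (.leaf 0) (.leaf 0) (.leaf 0)) (.node (.leaf 0) (.leaf 0) (.leaf 0) (.leaf 0)) (.node (.leaf 0) (.leaf 0) (.leaf 0) (.leaf 0))) (.node (.node (.leaf 0) (.leaf 0) (.leaf 0) (.leaf 0)) (.node (.leaf 0) (.leaf 0) (.leaf 0) (.leaf 0)) (.node (.leaf 0) (.leaf 0) (.leaf 0) (.leaf 0)) (.node (.leaf 0) (.leaf 0) (.leaf 0) (.leaf 0))) (.node (.node (.leaf 724) (.leaf 0) (.leaf 0) (.leaf 0)) (.node (.leaf 3984) (.leaf 0) (.leaf 0) (.leaf 0)) (.node (.leaf 0) (.leaf 0) (.leaf 0) (.leaf 0)) (.node (.leaf 0) (.leaf 0) (.leaf 0) (.leaf 0))) (.node (.node (.leaf 0) (.leaf 2741) (.leaf 3380) (.leaf 0)) (.node (.leaf 0) (.leaf 0) (.leaf 3377) (.leaf 0)) (.node (.leaf 0) (.leaf 0) (.leaf 0) (.leaf 0)) (.node (.leaf 2461) (.leaf 3149) (.leaf 0) (.leaf 0)))))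
def rowTree8 : SporBound.Q ℕ := (.node (.node (.node (.node (.leaf 340) (.leaf 3636) (.leaf 0) (.leaf 0)) (.node (.leaf 0) (.leaf 0) (.leaf 0) (.leaf 0)) (.node (.leaf 0) (.leaf 0) (.leaf 0) (.leaf 0)) (.node (.leaf 0) (.leaf 0) (.leaf 0) (.leaf 0))) (.node (.node (.leaf 0) (.leaf 0) (.leaf 0) (.leaf 0)) (.node (.leaf 0) (.leaf 3129) (.leaf 0) (.leaf 3125)) (.node (.leaf 372) (.leaf 0) (.leaf 0) (.leaf 0)) (.node (.leaf 3113) (.leaf 0) (.leaf 0) (.leaf 0))) (.node (.node (.leaf 2389) (.leaf 0) (.leaf 0) (.leaf 0)) (.node (.leaf 0) (.leaf 0) (.leaf 0) (.leaf 0)) (.node (.leaf 0) (.leaf 0) (.leaf 0) (.leaf 0)) (.node (.leaf 0) (.leaf 0) (.leaf 0) (.leaf 0))) (.node (.node (.leaf 0) (.leaf 0) (.leaf 0) (.leaf 0)) (.node (.leaf 852) (.leaf 0) (.leaf 0) (.leaf 0)) (.node (.leaf 0) (.leaf 0) (.leaf 0) (.leaf 0)) (.node (.leaf 0) (.leaf 0) (.leaf 0) (.leaf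 0)))) (.node (.node (.node (.leaf 0) (.leaf 1401) (.leaf 0) (.leaf 0)) (.node (.leaf 3889) (.leaf 0) (.leaf 0) (.leaf 0)) (.node (.leaf 0) (.leaf 0) (.leaf 0) (.leaf 0)) (.node (.leaf 0) (.leaf 0) (.leaf 0) (.leaf 0))) (.node (.node (.leaf 1941) (.leaf 0) (.leaf 0) (.leaf 797)) (.node (.leaf 589) (.leaf 0) (.leaf 0) (.leaf 0)) (.node (.leaf 0) (.leaf 0) (.leaf 0) (.leaf 0)) (.node (.leaf 1412) (.leaf 0) (.leaf 0) (.leaf 0))) (.node (.node (.leaf 0) (.leaf 3805) (.leaf 0) (.leaf 0)) (.node (.leaf 0) (.leaf 0) (.leaf 0) (.leaf 0)) (.node (.leaf 0) (.leaf 0) (.leaf 0) (.leaf 0)) (.node (.leaf 0) (.leaf 0) (.leaf 0) (.leaf 0))) (.node (.node (.leaf 2473) (.leaf 0) (.leaf 0) (.leaf 0)) (.node (.leaf 2677) (.leaf 0) (.leaf 0) (.leaf 0)) (.node (.leaf 0) (.leaf 0) (.leaf 0) (.leaf 0)) (.node (.leaf 0) (.leaf 0) (.leaf 0) (.leaf 0)))) (.node (.node (.node (.leaf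 0) (.leaf 0) (.leaf 0) (.leaf 0)) (.node (.leaf 0) (.leaf 0) (.leaf 0) (.leaf 0)) (.node (.leaf 3649) (.leaf 0) (.leaf 0) (.leaf 0)) (.node (.leaf 0) (.leaf 0) (.leaf 1921) (.leaf 0))) (.node (.node (.leaf 0) (.leaf 0) (.leaf 0) (.leaf 0)) (.node (.leaf 1137) (.leaf 0) (.leaf 0) (.leaf 0)) (.node (.leaf 0) (.leaf 0) (.leaf 0) (.leaf 0)) (.node (.leaf 3589) (.leaf 0) (.leaf 0) (.leaf 0))) (.node (.node (.leaf 0) (.leaf 0) (.leaf 0) (.leaf 0)) (.node (.leaf 0) (.leaf 0) (.leaf 0) (.leaf 0)) (.node (.leaf 2609) (.leaf 0) (.leaf 0) (.leaf 0)) (.node (.leaf 0) (.leaf 1185) (.leaf 0) (.leaf 0))) (.node (.node (.leaf 0) (.leaf 0) (.leaf 0) (.leaf 0)) (.node (.leaf 0) (.leaf 0) (.leaf 0) (.leaf 0)) (.node (.leaf 3565) (.leaf 0) (.leaf 0) (.leaf 0)) (.node (.leaf 0) (.leaf 0) (.leaf 0) (.leaf 0)))) (.node (.node (.node (.leaf 65) (.leaf 2704) (.leaf 0) (.leaf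 0)) (.node (.leaf 0) (.leaf 0) (.leaf 0) (.leaf 0)) (.node (.leaf 2948) (.leaf 0) (.leaf 0) (.leaf 0)) (.node (.leaf 0) (.leaf 0) (.leaf 0) (.leaf 0))) (.node (.node (.leaf 0) (.leaf 0) (.leaf 0) (.leaf 0)) (.node (.leaf 0) (.leaf 0) (.leaf 0) (.leaf 0)) (.node (.leaf 0) (.leaf 0) (.leaf 0) (.leaf 0)) (.node (.leaf 0) (.leaf 2517) (.leaf 2493) (.leaf 0))) (.node (.node (.leaf 1729) (.leaf 0) (.leaf 2925) (.leaf 0)) (.node (.leaf 1316) (.leaf 0) (.leaf 0) (.leaf 0)) (.node (.leaf 0) (.leaf 0) (.leaf 0) (.leaf 0)) (.node (.leaf 0) (.leaf 0) (.leaf 0) (.leaf 0))) (.node (.node (.leaf 0) (.leaf 3269) (.leaf 0) (.leaf 0)) (.node (.leaf 0) (.leaf 0) (.leaf 0) (.leaf 0)) (.node (.leaf 0) (.leaf 0) (.leaf 0) (.leaf 0)) (.node (.leaf 0) (.leaf 973) (.leaf 0) (.leaf 0)))))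
def rowTree9 : SporBound.Q ℕ := (.node (.node (.node (.node (.leaf 1348) (.leaf 0) (.leaf 0) (.leaf 0)) (.node (.leaf 0) (.leaf 0) (.leaf 0) (.leaf 0)) (.node (.leaf 0) (.leaf 0) (.leaf 0) (.leaf 0)) (.node (.leaf 0) (.leaf 0) (.leaf 0) (.leaf 0))) (.node (.node (.leaf 0) (.leaf 0) (.leaf 0) (.leaf 0)) (.node (.leaf 0) (.leaf 0) (.leaf 0) (.leaf 0)) (.node (.leaf 3757) (.leaf 0) (.leaf 0) (.leaf 0)) (.node (.leaf 0) (.leaf 0) (.leaf 0) (.leaf 0))) (.node (.node (.leaf 1397) (.leaf 0) (.leaf 0) (.leaf 0)) (.node (.leaf 0) (.leaf 0) (.leaf 0) (.leaf 0)) (.node (.leaf 0) (.leaf 0) (.leaf 0) (.leaf 0)) (.node (.leaf 2692) (.leaf 0) (.leaf 0) (.leaf 0))) (.node (.node (.leaf 0) (.leaf 0) (.leaf 0) (.leaf 0)) (.node (.leaf 1857) (.leaf 0) (.leaf 0) (.leaf 0)) (.node (.leaf 0) (.leaf 0) (.leaf 0) (.leaf 0)) (.node (.leaf 0) (.leaf 0) (.leaf 0) (.leaf 0))))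 (.node (.node (.node (.leaf 0) (.leaf 0) (.leaf 0) (.leaf 0)) (.node (.leaf 2681) (.leaf 0) (.leaf 0) (.leaf 0)) (.node (.leaf 0) (.leaf 0) (.leaf 0) (.leaf 0)) (.node (.leaf 0) (.leaf 0) (.leaf 0) (.leaf 0))) (.node (.node (.leaf 0) (.leaf 0) (.leaf 0) (.leaf 0)) (.node (.leaf 3541) (.leaf 0) (.leaf 0) (.leaf 0)) (.node (.leaf 0) (.leaf 0) (.leaf 0) (.leaf 0)) (.node (.leaf 3873) (.leaf 105) (.leaf 0) (.leaf 0))) (.node (.node (.leaf 0) (.leaf 0) (.leaf 0) (.leaf 0)) (.node (.leaf 0) (.leaf 0) (.leaf 0) (.leaf 0)) (.node (.leaf 0) (.leaf 0) (.leaf 0) (.leaf 0)) (.node (.leaf 0) (.leaf 0) (.leaf 0) (.leaf 0))) (.node (.node (.leaf 1501) (.leaf 0) (.leaf 0) (.leaf 0)) (.node (.leaf 0) (.leaf 0) (.leaf 0) (.leaf 0)) (.node (.leaf 0) (.leaf 0) (.leaf 0) (.leaf 0)) (.node (.leaf 0) (.leaf 740) (.leaf 0) (.leaf 0)))) (.node (.node (.node (.leaf 0) (.leaf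 0) (.leaf 0) (.leaf 0)) (.node (.leaf 0) (.leaf 0) (.leaf 0) (.leaf 0)) (.node (.leaf 3972) (.leaf 1957) (.leaf 0) (.leaf 0)) (.node (.leaf 0) (.leaf 0) (.leaf 3741) (.leaf 0))) (.node (.node (.leaf 1088) (.leaf 0) (.leaf 0) (.leaf 0)) (.node (.leaf 0) (.leaf 0) (.leaf 0) (.leaf 0)) (.node (.leaf 0) (.leaf 0) (.leaf 0) (.leaf 0)) (.node (.leaf 2833) (.leaf 0) (.leaf 0) (.leaf 0))) (.node (.node (.leaf 0) (.leaf 0) (.leaf 0) (.leaf 0)) (.node (.leaf 3933) (.leaf 0) (.leaf 0) (.leaf 0)) (.node (.leaf 121) (.leaf 0) (.leaf 0) (.leaf 0)) (.node (.leaf 0) (.leaf 0) (.leaf 0) (.leaf 0))) (.node (.node (.leaf 0) (.leaf 2421) (.leaf 0) (.leaf 0)) (.node (.leaf 0) (.leaf 0) (.leaf 0) (.leaf 0)) (.node (.leaf 2689) (.leaf 0) (.leaf 0) (.leaf 0)) (.node (.leaf 0) (.leaf 0) (.leaf 0) (.leaf 0)))) (.node (.node (.node (.leaf 260) (.leaf 4069) (.leaf 0) (.leaf 0))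 (.node (.leaf 0) (.leaf 0) (.leaf 0) (.leaf 0)) (.node (.leaf 3713) (.leaf 0) (.leaf 0) (.leaf 0)) (.node (.leaf 0) (.leaf 0) (.leaf 3561) (.leaf 0))) (.node (.node (.leaf 0) (.leaf 0) (.leaf 0) (.leaf 0)) (.node (.leaf 0) (.leaf 3597) (.leaf 0) (.leaf 0)) (.node (.leaf 0) (.leaf 0) (.leaf 0) (.leaf 0)) (.node (.leaf 0) (.leaf 101) (.leaf 1805) (.leaf 0))) (.node (.node (.leaf 0) (.leaf 0) (.leaf 2276) (.leaf 0)) (.node (.leaf 1529) (.leaf 0) (.leaf 0) (.leaf 0)) (.node (.leaf 3557) (.leaf 0) (.leaf 0) (.leaf 0)) (.node (.leaf 0) (.leaf 0) (.leaf 0) (.leaf 0))) (.node (.node (.leaf 0) (.leaf 0) (.leaf 0) (.leaf 0)) (.node (.leaf 0) (.leaf 3117) (.leaf 0) (.leaf 0)) (.node (.leaf 0) (.leaf 0) (.leaf 0) (.leaf 0)) (.node (.leaf 0) (.leaf 2148) (.leaf 0) (.leaf 0)))))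
def rowTree10 : SporBound.Q ℕ := (.node (.node (.node (.node (.leaf 20) (.leaf 0) (.leaf 0) (.leaf 0)) (.node (.leaf 2457) (.leaf 0) (.leaf 0) (.leaf 0)) (.node (.leaf 0) (.leaf 0) (.leaf 0) (.leaf 0)) (.node (.leaf 0) (.leaf 0) (.leaf 0) (.leaf 0))) (.node (.node (.leaf 0) (.leaf 0) (.leaf 0) (.leaf 0)) (.node (.leaf 0) (.leaf 0) (.leaf 3217) (.leaf 0)) (.node (.leaf 0) (.leaf 0) (.leaf 0) (.leaf 0)) (.node (.leaf 0) (.leaf 0) (.leaf 0) (.leaf 0))) (.node (.node (.leaf 2709) (.leaf 0) (.leaf 0) (.leaf 0)) (.node (.leaf 0) (.leaf 0) (.leaf 0) (.leaf 0)) (.node (.leaf 0) (.leaf 0) (.leaf 0) (.leaf 0)) (.node (.leaf 2029) (.leaf 0) (.leaf 0) (.leaf 0))) (.node (.node (.leaf 0) (.leaf 1801) (.leaf 0) (.leaf 0)) (.node (.leaf 0) (.leaf 0) (.leaf 0) (.leaf 0)) (.node (.leaf 2960) (.leaf 0) (.leaf 0) (.leaf 0)) (.node (.leaf 0) (.leaf 0) (.leaf 0) (.leaf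 0)))) (.node (.node (.node (.leaf 325) (.leaf 0) (.leaf 0) (.leaf 0)) (.node (.leaf 837) (.leaf 0) (.leaf 0) (.leaf 0)) (.node (.leaf 0) (.leaf 3481) (.leaf 0) (.leaf 0)) (.node (.leaf 0) (.leaf 0) (.leaf 0) (.leaf 0))) (.node (.node (.leaf 0) (.leaf 0) (.leaf 3205) (.leaf 0)) (.node (.leaf 208) (.leaf 0) (.leaf 0) (.leaf 0)) (.node (.leaf 0) (.leaf 0) (.leaf 0) (.leaf 0)) (.node (.leaf 2868) (.leaf 0) (.leaf 0) (.leaf 0))) (.node (.node (.leaf 0) (.leaf 0) (.leaf 0) (.leaf 0)) (.node (.leaf 0) (.leaf 2397) (.leaf 0) (.leaf 0)) (.node (.leaf 0) (.leaf 0) (.leaf 0) (.leaf 0)) (.node (.leaf 0) (.leaf 0) (.leaf 0) (.leaf 0))) (.node (.node (.leaf 2793) (.leaf 0) (.leaf 0) (.leaf 0)) (.node (.leaf 0) (.leaf 0) (.leaf 0) (.leaf 0)) (.node (.leaf 1872) (.leaf 0) (.leaf 0) (.leaf 0)) (.node (.leaf 0) (.leaf 1913) (.leaf 0) (.leaf 0)))) (.node (.node (.node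 (.leaf 0) (.leaf 0) (.leaf 0) (.leaf 0)) (.node (.leaf 0) (.leaf 0) (.leaf 0) (.leaf 0)) (.node (.leaf 1313) (.leaf 1797) (.leaf 0) (.leaf 0)) (.node (.leaf 0) (.leaf 0) (.leaf 0) (.leaf 0))) (.node (.node (.leaf 4053) (.leaf 0) (.leaf 0) (.leaf 0)) (.node (.leaf 3213) (.leaf 0) (.leaf 0) (.leaf 0)) (.node (.leaf 0) (.leaf 0) (.leaf 0) (.leaf 0)) (.node (.leaf 553) (.leaf 0) (.leaf 0) (.leaf 0))) (.node (.node (.leaf 1621) (.leaf 0) (.leaf 0) (.leaf 0)) (.node (.leaf 0) (.leaf 0) (.leaf 0) (.leaf 0)) (.node (.leaf 2917) (.leaf 0) (.leaf 0) (.leaf 0)) (.node (.leaf 0) (.leaf 0) (.leaf 0) (.leaf 0))) (.node (.node (.leaf 0) (.leaf 3088) (.leaf 0) (.leaf 0)) (.node (.leaf 0) (.leaf 0) (.leaf 0) (.leaf 0)) (.node (.leaf 2425) (.leaf 0) (.leaf 0) (.leaf 0)) (.node (.leaf 2292) (.leaf 0) (.leaf 0) (.leaf 0)))) (.node (.node (.node (.leaf 2409) (.leaf 2384)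 (.leaf 0) (.leaf 0)) (.node (.leaf 0) (.leaf 0) (.leaf 0) (.leaf 0)) (.node (.leaf 0) (.leaf 0) (.leaf 0) (.leaf 0)) (.node (.leaf 0) (.leaf 0) (.leaf 317) (.leaf 0))) (.node (.node (.leaf 0) (.leaf 0) (.leaf 0) (.leaf 0)) (.node (.leaf 0) (.leaf 3677) (.leaf 433) (.leaf 0)) (.node (.leaf 0) (.leaf 0) (.leaf 0) (.leaf 0)) (.node (.leaf 0) (.leaf 181) (.leaf 0) (.leaf 0))) (.node (.node (.leaf 0) (.leaf 3093) (.leaf 3705) (.leaf 0)) (.node (.leaf 3005) (.leaf 0) (.leaf 0) (.leaf 0)) (.node (.leaf 2009) (.leaf 0) (.leaf 0) (.leaf 0)) (.node (.leaf 0) (.leaf 0) (.leaf 0) (.leaf 0))) (.node (.node (.leaf 0) (.leaf 0) (.leaf 0) (.leaf 0)) (.node (.leaf 0) (.leaf 1661) (.leaf 0) (.leaf 0)) (.node (.leaf 0) (.leaf 3348) (.leaf 0) (.leaf 0)) (.node (.leaf 0) (.leaf 0) (.leaf 0) (.leaf 0)))))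
def rowTree11 : SporBound.Q ℕ := (.node (.node (.node (.node (.leaf 17) (.leaf 3297) (.leaf 2937) (.leaf 0)) (.node (.leaf 3453) (.leaf 0) (.leaf 0) (.leaf 0)) (.node (.leaf 0) (.leaf 0) (.leaf 0) (.leaf 0)) (.node (.leaf 0) (.leaf 0) (.leaf 0) (.leaf 0))) (.node (.node (.leaf 0) (.leaf 0) (.leaf 0) (.leaf 0)) (.node (.leaf 0) (.leaf 0) (.leaf 2997) (.leaf 0)) (.node (.leaf 0) (.leaf 0) (.leaf 0) (.leaf 0)) (.node (.leaf 3664) (.leaf 0) (.leaf 0) (.leaf 0))) (.node (.node (.leaf 277) (.leaf 0) (.leaf 0) (.leaf 0)) (.node (.leaf 0) (.leaf 0) (.leaf 0) (.leaf 0)) (.node (.leaf 0) (.leaf 0) (.leaf 0) (.leaf 0)) (.node (.leaf 2052) (.leaf 0) (.leaf 0) (.leaf 0))) (.node (.node (.leaf 0) (.leaf 1961) (.leaf 0) (.leaf 0)) (.node (.leaf 1140) (.leaf 0) (.leaf 0) (.leaf 0)) (.node (.leaf 3716) (.leaf 0) (.leaf 0) (.leaf 0)) (.node (.leaf 0) (.leaf 1812) (.leaf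 0) (.leaf 0)))) (.node (.node (.node (.leaf 1345) (.leaf 0) (.leaf 0) (.leaf 0)) (.node (.leaf 3153) (.leaf 0) (.leaf 0) (.leaf 0)) (.node (.leaf 0) (.leaf 1124) (.leaf 0) (.leaf 0)) (.node (.leaf 0) (.leaf 0) (.leaf 0) (.leaf 0))) (.node (.node (.leaf 0) (.leaf 0) (.leaf 89) (.leaf 1065)) (.node (.leaf 3892) (.leaf 0) (.leaf 0) (.leaf 0)) (.node (.leaf 0) (.leaf 0) (.leaf 0) (.leaf 0)) (.node (.leaf 0) (.leaf 0) (.leaf 0) (.leaf 0))) (.node (.node (.leaf 0) (.leaf 313) (.leaf 0) (.leaf 0)) (.node (.leaf 0) (.leaf 356) (.leaf 0) (.leaf 0)) (.node (.leaf 0) (.leaf 0) (.leaf 0) (.leaf 0)) (.node (.leaf 0) (.leaf 0) (.leaf 0) (.leaf 0))) (.node (.node (.leaf 3421) (.leaf 0) (.leaf 0) (.leaf 0)) (.node (.leaf 0) (.leaf 0) (.leaf 0) (.leaf 0)) (.node (.leaf 3396) (.leaf 0) (.leaf 0) (.leaf 0)) (.node (.leaf 0) (.leaf 420) (.leaf 0) (.leaf 0)))) (.node (.node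 (.node (.leaf 0) (.leaf 0) (.leaf 0) (.leaf 0)) (.node (.leaf 0) (.leaf 0) (.leaf 0) (.leaf 0)) (.node (.leaf 2324) (.leaf 772) (.leaf 0) (.leaf 0)) (.node (.leaf 0) (.leaf 0) (.leaf 0) (.leaf 0))) (.node (.node (.leaf 1381) (.leaf 0) (.leaf 0) (.leaf 0)) (.node (.leaf 457) (.leaf 0) (.leaf 0) (.leaf 0)) (.node (.leaf 0) (.leaf 0) (.leaf 0) (.leaf 0)) (.node (.leaf 0) (.leaf 0) (.leaf 0) (.leaf 0))) (.node (.node (.leaf 1701) (.leaf 0) (.leaf 0) (.leaf 0)) (.node (.leaf 2725) (.leaf 3076) (.leaf 0) (.leaf 0)) (.node (.leaf 3593) (.leaf 3989) (.leaf 0) (.leaf 0)) (.node (.leaf 0) (.leaf 0) (.leaf 0) (.leaf 0))) (.node (.node (.leaf 0) (.leaf 0) (.leaf 0) (.leaf 0)) (.node (.leaf 0) (.leaf 0) (.leaf 0) (.leaf 0)) (.node (.leaf 2049) (.leaf 0) (.leaf 0) (.leaf 0)) (.node (.leaf 868) (.leaf 0) (.leaf 0) (.leaf 0)))) (.node (.node (.node (.leaf 1040) (.leaf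 965) (.leaf 0) (.leaf 0)) (.node (.leaf 0) (.leaf 0) (.leaf 0) (.leaf 0)) (.node (.leaf 281) (.leaf 0) (.leaf 0) (.leaf 0)) (.node (.leaf 2777) (.leaf 0) (.leaf 0) (.leaf 0))) (.node (.node (.leaf 0) (.leaf 0) (.leaf 0) (.leaf 0)) (.node (.leaf 0) (.leaf 2596) (.leaf 3513) (.leaf 0)) (.node (.leaf 0) (.leaf 0) (.leaf 3457) (.leaf 0)) (.node (.leaf 0) (.leaf 3536) (.leaf 1545) (.leaf 0))) (.node (.node (.leaf 0) (.leaf 401) (.leaf 0) (.leaf 0)) (.node (.leaf 4085) (.leaf 3749) (.leaf 0) (.leaf 0)) (.node (.leaf 3049) (.leaf 0) (.leaf 0) (.leaf 0)) (.node (.leaf 0) (.leaf 0) (.leaf 0) (.leaf 0))) (.node (.node (.leaf 0) (.leaf 0) (.leaf 0) (.leaf 0)) (.node (.leaf 0) (.leaf 0) (.leaf 0) (.leaf 0)) (.node (.leaf 0) (.leaf 1901) (.leaf 0) (.leaf 0)) (.node (.leaf 0) (.leaf 0) (.leaf 0) (.leaf 0)))))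
def rowTree12 : SporBound.Q ℕ := (.node (.node (.node (.node (.leaf 5) (.leaf 969) (.leaf 393) (.leaf 0)) (.node (.leaf 0) (.leaf 0) (.leaf 0) (.leaf 0)) (.node (.leaf 0) (.leaf 0) (.leaf 0) (.leaf 0)) (.node (.leaf 0) (.leaf 0) (.leaf 0) (.leaf 0))) (.node (.node (.leaf 0) (.leaf 0) (.leaf 0) (.leaf 0)) (.node (.leaf 0) (.leaf 753) (.leaf 253) (.leaf 0)) (.node (.leaf 0) (.leaf 0) (.leaf 0) (.leaf 0)) (.node (.leaf 2884) (.leaf 0) (.leaf 0) (.leaf 0))) (.node (.node (.leaf 1433) (.leaf 0) (.leaf 0) (.leaf 0)) (.node (.leaf 0) (.leaf 793) (.leaf 0) (.leaf 0)) (.node (.leaf 0) (.leaf 0) (.leaf 0) (.leaf 0)) (.node (.leaf 0) (.leaf 0) (.leaf 0) (.leaf 0))) (.node (.node (.leaf 0) (.leaf 1293) (.leaf 0) (.leaf 0)) (.node (.leaf 369) (.leaf 0) (.leaf 0) (.leaf 0)) (.node (.leaf 3069) (.leaf 0) (.leaf 0) (.leaf 0)) (.node (.leaf 0) (.leaf 0) (.leaf 0) (.leaf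 0)))) (.node (.node (.node (.leaf 1105) (.leaf 2821) (.leaf 0) (.leaf 537)) (.node (.leaf 189) (.leaf 0) (.leaf 0) (.leaf 0)) (.node (.leaf 0) (.leaf 233) (.leaf 0) (.leaf 0)) (.node (.leaf 0) (.leaf 0) (.leaf 0) (.leaf 0))) (.node (.node (.leaf 0) (.leaf 0) (.leaf 2640) (.leaf 0)) (.node (.leaf 4013) (.leaf 0) (.leaf 0) (.leaf 0)) (.node (.leaf 0) (.leaf 0) (.leaf 0) (.leaf 0)) (.node (.leaf 3273) (.leaf 0) (.leaf 0) (.leaf 0))) (.node (.node (.leaf 0) (.leaf 1069) (.leaf 0) (.leaf 0)) (.node (.leaf 0) (.leaf 2717) (.leaf 0) (.leaf 0)) (.node (.leaf 0) (.leaf 0) (.leaf 0) (.leaf 0)) (.node (.leaf 0) (.leaf 0) (.leaf 0) (.leaf 0))) (.node (.node (.leaf 3581) (.leaf 0) (.leaf 0) (.leaf 0)) (.node (.leaf 0) (.leaf 0) (.leaf 0) (.leaf 0)) (.node (.leaf 2749) (.leaf 0) (.leaf 0) (.leaf 0)) (.node (.leaf 1469) (.leaf 2781) (.leaf 0) (.leaf 0)))) (.node (.node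 (.node (.leaf 0) (.leaf 0) (.leaf 0) (.leaf 0)) (.node (.leaf 0) (.leaf 0) (.leaf 0) (.leaf 0)) (.node (.leaf 0) (.leaf 1157) (.leaf 0) (.leaf 0)) (.node (.leaf 0) (.leaf 0) (.leaf 0) (.leaf 0))) (.node (.node (.leaf 3413) (.leaf 0) (.leaf 0) (.leaf 0)) (.node (.leaf 2185) (.leaf 0) (.leaf 0) (.leaf 0)) (.node (.leaf 0) (.leaf 0) (.leaf 0) (.leaf 0)) (.node (.leaf 0) (.leaf 0) (.leaf 0) (.leaf 0))) (.node (.node (.leaf 1373) (.leaf 0) (.leaf 0) (.leaf 0)) (.node (.leaf 1385) (.leaf 0) (.leaf 0) (.leaf 0)) (.node (.leaf 2164) (.leaf 1509) (.leaf 0) (.leaf 0)) (.node (.leaf 0) (.leaf 0) (.leaf 0) (.leaf 0))) (.node (.node (.leaf 0) (.leaf 0) (.leaf 0) (.leaf 0)) (.node (.leaf 0) (.leaf 0) (.leaf 0) (.leaf 0)) (.node (.leaf 0) (.leaf 0) (.leaf 0) (.leaf 0)) (.node (.leaf 2809) (.leaf 0) (.leaf 0) (.leaf 0)))) (.node (.node (.node (.leaf 2661) (.leaf 0)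 (.leaf 0) (.leaf 0)) (.node (.leaf 0) (.leaf 0) (.leaf 901) (.leaf 0)) (.node (.leaf 3133) (.leaf 0) (.leaf 0) (.leaf 0)) (.node (.leaf 2573) (.leaf 1161) (.leaf 0) (.leaf 0))) (.node (.node (.leaf 0) (.leaf 0) (.leaf 0) (.leaf 0)) (.node (.leaf 0) (.leaf 0) (.leaf 1204) (.leaf 0)) (.node (.leaf 0) (.leaf 0) (.leaf 3501) (.leaf 0)) (.node (.leaf 0) (.leaf 0) (.leaf 0) (.leaf 0))) (.node (.node (.leaf 0) (.leaf 1172) (.leaf 585) (.leaf 0)) (.node (.leaf 1476) (.leaf 4036) (.leaf 2541) (.leaf 0)) (.node (.leaf 1424) (.leaf 0) (.leaf 0) (.leaf 0)) (.node (.leaf 0) (.leaf 0) (.leaf 297) (.leaf 0))) (.node (.node (.leaf 0) (.leaf 0) (.leaf 0) (.leaf 0)) (.node (.leaf 0) (.leaf 0) (.leaf 0) (.leaf 0)) (.node (.leaf 0) (.leaf 2756) (.leaf 0) (.leaf 0)) (.node (.leaf 0) (.leaf 0) (.leaf 0) (.leaf 0)))))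
def rowTree13 : SporBound.Q ℕ := (.node (.node (.node (.node (.leaf 0) (.leaf 4089) (.leaf 0) (.leaf 2025)) (.node (.leaf 1705) (.leaf 0) (.leaf 0) (.leaf 0)) (.node (.leaf 0) (.leaf 3097) (.leaf 0) (.leaf 0)) (.node (.leaf 0) (.leaf 0) (.leaf 0) (.leaf 0))) (.node (.node (.leaf 85) (.leaf 0) (.leaf 1749) (.leaf 0)) (.node (.leaf 0) (.leaf 593) (.leaf 2628) (.leaf 0)) (.node (.leaf 945) (.leaf 0) (.leaf 2340) (.leaf 0)) (.node (.leaf 3817) (.leaf 0) (.leaf 0) (.leaf 0))) (.node (.node (.leaf 1909) (.leaf 3485) (.leaf 0) (.leaf 0)) (.node (.leaf 0) (.leaf 1329) (.leaf 0) (.leaf 0)) (.node (.leaf 0) (.leaf 0) (.leaf 0) (.leaf 0)) (.node (.leaf 0) (.leaf 0) (.leaf 0) (.leaf 0))) (.node (.node (.leaf 0) (.leaf 0) (.leaf 0) (.leaf 0)) (.node (.leaf 0) (.leaf 0) (.leaf 0) (.leaf 0)) (.node (.leaf 0) (.leaf 0) (.leaf 0) (.leaf 0)) (.node (.leaf 0) (.leaf 3136)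 (.leaf 0) (.leaf 0)))) (.node (.node (.node (.leaf 1025) (.leaf 2901) (.leaf 0) (.leaf 0)) (.node (.leaf 1225) (.leaf 0) (.leaf 0) (.leaf 0)) (.node (.leaf 3957) (.leaf 3521) (.leaf 0) (.leaf 0)) (.node (.leaf 0) (.leaf 0) (.leaf 0) (.leaf 0))) (.node (.node (.leaf 0) (.leaf 0) (.leaf 4005) (.leaf 0)) (.node (.leaf 4061) (.leaf 3780) (.leaf 0) (.leaf 0)) (.node (.leaf 0) (.leaf 0) (.leaf 0) (.leaf 0)) (.node (.leaf 653) (.leaf 0) (.leaf 0) (.leaf 0))) (.node (.node (.leaf 0) (.leaf 0) (.leaf 0) (.leaf 0)) (.node (.leaf 0) (.leaf 3281) (.leaf 0) (.leaf 0)) (.node (.leaf 0) (.leaf 0) (.leaf 0) (.leaf 0)) (.node (.leaf 0) (.leaf 0) (.leaf 0) (.leaf 0))) (.node (.node (.leaf 1753) (.leaf 805) (.leaf 0) (.leaf 0)) (.node (.leaf 0) (.leaf 0) (.leaf 0) (.leaf 0)) (.node (.leaf 0) (.leaf 0) (.leaf 0) (.leaf 0)) (.node (.leaf 1769) (.leaf 0) (.leaf 0) (.leaf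 0)))) (.node (.node (.node (.leaf 0) (.leaf 1077) (.leaf 0) (.leaf 0)) (.node (.leaf 0) (.leaf 0) (.leaf 0) (.leaf 0)) (.node (.leaf 3545) (.leaf 3701) (.leaf 0) (.leaf 0)) (.node (.leaf 0) (.leaf 0) (.leaf 0) (.leaf 0))) (.node (.node (.leaf 1285) (.leaf 0) (.leaf 0) (.leaf 0)) (.node (.leaf 333) (.leaf 0) (.leaf 0) (.leaf 0)) (.node (.leaf 0) (.leaf 0) (.leaf 0) (.leaf 0)) (.node (.leaf 0) (.leaf 0) (.leaf 0) (.leaf 0))) (.node (.node (.leaf 1045) (.leaf 0) (.leaf 0) (.leaf 0)) (.node (.leaf 3997) (.leaf 0) (.leaf 0) (.leaf 0)) (.node (.leaf 3169) (.leaf 2117) (.leaf 0) (.leaf 0)) (.node (.leaf 0) (.leaf 0) (.leaf 0) (.leaf 0))) (.node (.node (.leaf 0) (.leaf 0) (.leaf 0) (.leaf 0)) (.node (.leaf 0) (.leaf 0) (.leaf 0) (.leaf 0)) (.node (.leaf 0) (.leaf 0) (.leaf 0) (.leaf 0)) (.node (.leaf 0) (.leaf 0) (.leaf 0) (.leaf 0)))) (.node (.node (.node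 (.leaf 0) (.leaf 0) (.leaf 0) (.leaf 0)) (.node (.leaf 0) (.leaf 0) (.leaf 0) (.leaf 0)) (.node (.leaf 0) (.leaf 0) (.leaf 0) (.leaf 0)) (.node (.leaf 237) (.leaf 1009) (.leaf 3857) (.leaf 0))) (.node (.node (.leaf 0) (.leaf 0) (.leaf 0) (.leaf 0)) (.node (.leaf 0) (.leaf 0) (.leaf 1965) (.leaf 0)) (.node (.leaf 1365) (.leaf 0) (.leaf 0) (.leaf 0)) (.node (.leaf 1893) (.leaf 0) (.leaf 0) (.leaf 0))) (.node (.node (.leaf 0) (.leaf 0) (.leaf 0) (.leaf 0)) (.node (.leaf 185) (.leaf 245) (.leaf 0) (.leaf 0)) (.node (.leaf 3876) (.leaf 0) (.leaf 0) (.leaf 0)) (.node (.leaf 0) (.leaf 0) (.leaf 0) (.leaf 0))) (.node (.node (.leaf 0) (.leaf 0) (.leaf 0) (.leaf 0)) (.node (.leaf 0) (.leaf 0) (.leaf 0) (.leaf 0)) (.node (.leaf 0) (.leaf 2436) (.leaf 0) (.leaf 0)) (.node (.leaf 0) (.leaf 0) (.leaf 0) (.leaf 0)))))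
def rowTree14 : SporBound.Q ℕ := (.node (.node (.node (.node (.leaf 0) (.leaf 0) (.leaf 0) (.leaf 1725)) (.node (.leaf 1625) (.leaf 0) (.leaf 0) (.leaf 0)) (.node (.leaf 0) (.leaf 3737) (.leaf 0) (.leaf 0)) (.node (.leaf 0) (.leaf 2985) (.leaf 0) (.leaf 0))) (.node (.node (.leaf 80) (.leaf 0) (.leaf 0) (.leaf 0)) (.node (.leaf 0) (.leaf 3961) (.leaf 0) (.leaf 0)) (.node (.leaf 1553) (.leaf 3345) (.leaf 0) (.leaf 0)) (.node (.leaf 0) (.leaf 0) (.leaf 0) (.leaf 0))) (.node (.node (.leaf 1461) (.leaf 2537) (.leaf 0) (.leaf 0)) (.node (.leaf 0) (.leaf 3497) (.leaf 0) (.leaf 0)) (.node (.leaf 0) (.leaf 0) (.leaf 0) (.leaf 0)) (.node (.leaf 0) (.leaf 0) (.leaf 0) (.leaf 0))) (.node (.node (.leaf 0) (.leaf 0) (.leaf 0) (.leaf 0)) (.node (.leaf 0) (.leaf 0) (.leaf 1785) (.leaf 0)) (.node (.leaf 0) (.leaf 0) (.leaf 0) (.leaf 0)) (.node (.leaf 0) (.leaf 3941)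 (.leaf 0) (.leaf 0)))) (.node (.node (.node (.leaf 3549) (.leaf 285) (.leaf 0) (.leaf 0)) (.node (.leaf 169) (.leaf 0) (.leaf 0) (.leaf 0)) (.node (.leaf 4021) (.leaf 0) (.leaf 0) (.leaf 0)) (.node (.leaf 0) (.leaf 0) (.leaf 0) (.leaf 0))) (.node (.node (.leaf 0) (.leaf 0) (.leaf 0) (.leaf 0)) (.node (.leaf 1513) (.leaf 1465) (.leaf 0) (.leaf 0)) (.node (.leaf 0) (.leaf 0) (.leaf 0) (.leaf 0)) (.node (.leaf 0) (.leaf 0) (.leaf 0) (.leaf 0))) (.node (.node (.leaf 0) (.leaf 0) (.leaf 0) (.leaf 0)) (.node (.leaf 0) (.leaf 0) (.leaf 0) (.leaf 0)) (.node (.leaf 0) (.leaf 0) (.leaf 0) (.leaf 0)) (.node (.leaf 0) (.leaf 0) (.leaf 0) (.leaf 0))) (.node (.node (.leaf 193) (.leaf 309) (.leaf 0) (.leaf 0)) (.node (.leaf 0) (.leaf 0) (.leaf 0) (.leaf 0)) (.node (.leaf 0) (.leaf 0) (.leaf 0) (.leaf 0)) (.node (.leaf 3849) (.leaf 0) (.leaf 0) (.leaf 0)))) (.node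 (.node (.node (.leaf 0) (.leaf 0) (.leaf 0) (.leaf 0)) (.node (.leaf 0) (.leaf 0) (.leaf 0) (.leaf 0)) (.node (.leaf 3773) (.leaf 132) (.leaf 0) (.leaf 0)) (.node (.leaf 0) (.leaf 0) (.leaf 0) (.leaf 0))) (.node (.node (.leaf 1280) (.leaf 0) (.leaf 0) (.leaf 0)) (.node (.leaf 3252) (.leaf 0) (.leaf 0) (.leaf 0)) (.node (.leaf 0) (.leaf 0) (.leaf 0) (.leaf 0)) (.node (.leaf 3728) (.leaf 0) (.leaf 0) (.leaf 0))) (.node (.node (.leaf 3965) (.leaf 3792) (.leaf 0) (.leaf 0)) (.node (.leaf 2405) (.leaf 0) (.leaf 0) (.leaf 0)) (.node (.leaf 3673) (.leaf 2000) (.leaf 0) (.leaf 0)) (.node (.leaf 0) (.leaf 0) (.leaf 0) (.leaf 0))) (.node (.node (.leaf 0) (.leaf 0) (.leaf 0) (.leaf 0)) (.node (.leaf 0) (.leaf 0) (.leaf 0) (.leaf 0)) (.node (.leaf 0) (.leaf 1809) (.leaf 0) (.leaf 0)) (.node (.leaf 0) (.leaf 0) (.leaf 0) (.leaf 0)))) (.node (.node (.node (.leaf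 1685) (.leaf 0) (.leaf 0) (.leaf 0)) (.node (.leaf 0) (.leaf 0) (.leaf 0) (.leaf 0)) (.node (.leaf 0) (.leaf 0) (.leaf 0) (.leaf 0)) (.node (.leaf 3145) (.leaf 1229) (.leaf 0) (.leaf 0))) (.node (.node (.leaf 0) (.leaf 0) (.leaf 397) (.leaf 0)) (.node (.leaf 0) (.leaf 0) (.leaf 0) (.leaf 0)) (.node (.leaf 0) (.leaf 0) (.leaf 2553) (.leaf 0)) (.node (.leaf 0) (.leaf 0) (.leaf 3033) (.leaf 0))) (.node (.node (.leaf 0) (.leaf 2829) (.leaf 0) (.leaf 0)) (.node (.leaf 3620) (.leaf 165) (.leaf 0) (.leaf 0)) (.node (.leaf 249) (.leaf 0) (.leaf 0) (.leaf 0)) (.node (.leaf 0) (.leaf 0) (.leaf 2577) (.leaf 0))) (.node (.node (.leaf 0) (.leaf 52) (.leaf 0) (.leaf 0)) (.node (.leaf 0) (.leaf 0) (.leaf 0) (.leaf 0)) (.node (.leaf 0) (.leaf 0) (.leaf 0) (.leaf 0)) (.node (.leaf 0) (.leaf 0) (.leaf 0) (.leaf 0)))))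
def rowTree15 : SporBound.Q ℕ := (.node (.node (.node (.node (.leaf 0) (.leaf 0) (.leaf 0) (.leaf 1085)) (.node (.leaf 3517) (.leaf 0) (.leaf 0) (.leaf 0)) (.node (.leaf 0) (.leaf 657) (.leaf 0) (.leaf 0)) (.node (.leaf 0) (.leaf 3065) (.leaf 0) (.leaf 0))) (.node (.node (.leaf 2037) (.leaf 0) (.leaf 0) (.leaf 0)) (.node (.leaf 1917) (.leaf 0) (.leaf 0) (.leaf 0)) (.node (.leaf 3577) (.leaf 2489) (.leaf 0) (.leaf 0)) (.node (.leaf 0) (.leaf 0) (.leaf 0) (.leaf 0))) (.node (.node (.leaf 2773) (.leaf 0) (.leaf 0) (.leaf 0)) (.node (.leaf 0) (.leaf 1665) (.leaf 0) (.leaf 0)) (.node (.leaf 0) (.leaf 0) (.leaf 0) (.leaf 0)) (.node (.leaf 0) (.leaf 0) (.leaf 0) (.leaf 0))) (.node (.node (.leaf 0) (.leaf 0) (.leaf 436) (.leaf 0)) (.node (.leaf 3249) (.leaf 0) (.leaf 0) (.leaf 0)) (.node (.leaf 293) (.leaf 1721) (.leaf 0) (.leaf 0)) (.node (.leaf 0) (.leaf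 2768) (.leaf 0) (.leaf 0)))) (.node (.node (.node (.leaf 1108) (.leaf 0) (.leaf 0) (.leaf 3845)) (.node (.leaf 1101) (.leaf 0) (.leaf 0) (.leaf 0)) (.node (.leaf 1473) (.leaf 0) (.leaf 0) (.leaf 0)) (.node (.leaf 0) (.leaf 0) (.leaf 0) (.leaf 0))) (.node (.node (.leaf 0) (.leaf 0) (.leaf 0) (.leaf 0)) (.node (.leaf 468) (.leaf 2132) (.leaf 0) (.leaf 0)) (.node (.leaf 0) (.leaf 0) (.leaf 0) (.leaf 0)) (.node (.leaf 3361) (.leaf 0) (.leaf 0) (.leaf 0))) (.node (.node (.leaf 0) (.leaf 0) (.leaf 0) (.leaf 0)) (.node (.leaf 0) (.leaf 0) (.leaf 0) (.leaf 0)) (.node (.leaf 0) (.leaf 0) (.leaf 0) (.leaf 0)) (.node (.leaf 0) (.leaf 0) (.leaf 0) (.leaf 0))) (.node (.node (.leaf 2669) (.leaf 3669) (.leaf 0) (.leaf 0)) (.node (.leaf 0) (.leaf 0) (.leaf 0) (.leaf 0)) (.node (.leaf 0) (.leaf 0) (.leaf 0) (.leaf 0)) (.node (.leaf 557) (.leaf 0) (.leaf 0) (.leaf 0))))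 (.node (.node (.node (.leaf 0) (.leaf 0) (.leaf 0) (.leaf 0)) (.node (.leaf 0) (.leaf 0) (.leaf 0) (.leaf 0)) (.node (.leaf 1488) (.leaf 0) (.leaf 0) (.leaf 0)) (.node (.leaf 0) (.leaf 0) (.leaf 0) (.leaf 0))) (.node (.node (.leaf 1445) (.leaf 0) (.leaf 0) (.leaf 0)) (.node (.leaf 484) (.leaf 0) (.leaf 0) (.leaf 0)) (.node (.leaf 0) (.leaf 3073) (.leaf 0) (.leaf 0)) (.node (.leaf 528) (.leaf 0) (.leaf 0) (.leaf 0))) (.node (.node (.leaf 1885) (.leaf 2485) (.leaf 0) (.leaf 0)) (.node (.leaf 465) (.leaf 0) (.leaf 0) (.leaf 0)) (.node (.leaf 1549) (.leaf 0) (.leaf 0) (.leaf 0)) (.node (.leaf 0) (.leaf 0) (.leaf 0) (.leaf 0))) (.node (.node (.leaf 0) (.leaf 0) (.leaf 0) (.leaf 0)) (.node (.leaf 0) (.leaf 0) (.leaf 0) (.leaf 0)) (.node (.leaf 0) (.leaf 769) (.leaf 0) (.leaf 0)) (.node (.leaf 0) (.leaf 0) (.leaf 0) (.leaf 0)))) (.node (.node (.node (.leaf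 0) (.leaf 0) (.leaf 0) (.leaf 0)) (.node (.leaf 0) (.leaf 0) (.leaf 0) (.leaf 0)) (.node (.leaf 2549) (.leaf 0) (.leaf 0) (.leaf 0)) (.node (.leaf 2905) (.leaf 0) (.leaf 0) (.leaf 0))) (.node (.node (.leaf 0) (.leaf 0) (.leaf 1201) (.leaf 0)) (.node (.leaf 0) (.leaf 0) (.leaf 609) (.leaf 0)) (.node (.leaf 0) (.leaf 0) (.leaf 3341) (.leaf 0)) (.node (.leaf 0) (.leaf 0) (.leaf 0) (.leaf 0))) (.node (.node (.leaf 0) (.leaf 3633) (.leaf 0) (.leaf 0)) (.node (.leaf 3233) (.leaf 0) (.leaf 0) (.leaf 0)) (.node (.leaf 2189) (.leaf 2941) (.leaf 0) (.leaf 0)) (.node (.leaf 0) (.leaf 0) (.leaf 0) (.leaf 0))) (.node (.node (.leaf 0) (.leaf 13) (.leaf 0) (.leaf 0)) (.node (.leaf 0) (.leaf 0) (.leaf 0) (.leaf 0)) (.node (.leaf 0) (.leaf 0) (.leaf 0) (.leaf 0)) (.node (.leaf 0) (.leaf 0) (.leaf 0) (.leaf 0)))))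
def rowTree : SporBound.Q ℕ := (.node (.node rowTree0 rowTree4 rowTree8 rowTree12) (.node rowTree1 rowTree5 rowTree9 rowTree13) (.node rowTree2 rowTree6 rowTree10 rowTree14) (.node rowTree3 rowTree7 rowTree11 rowTree15))

def codeTree0 : SporBound.Q ℕ := (.node (.node (.node (.node (.leaf 0) (.leaf 0) (.leaf 0) (.leaf 0)) (.node (.leaf 0) (.leaf 110) (.leaf 1200) (.leaf 1014)) (.node (.leaf 0) (.leaf 1014) (.leaf 110) (.leaf 1200)) (.node (.leaf 0) (.leaf 1200) (.leaf 1014) (.leaf 110))) (.node (.node (.leaf 0) (.leaf 105) (.leaf 438) (.leaf 1997)) (.node (.leaf 135) (.leaf 0) (.leaf 0) (.leaf 0)) (.node (.leaf 370) (.leaf 0) (.leaf 0) (.leaf 0)) (.node (.leaf 2179) (.leaf 0) (.leaf 0) (.leaf 0))) (.node (.node (.leaf 0) (.leaf 1997) (.leaf 105) (.leaf 438)) (.node (.leaf 2179) (.leaf 0) (.leaf 0) (.leaf 0)) (.node (.leaf 135) (.leaf 0) (.leaf 0) (.leaf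 0)) (.node (.leaf 370) (.leaf 0) (.leaf 0) (.leaf 0))) (.node (.node (.leaf 0) (.leaf 438) (.leaf 1997) (.leaf 105)) (.node (.leaf 370) (.leaf 0) (.leaf 0) (.leaf 0)) (.node (.leaf 2179) (.leaf 0) (.leaf 0) (.leaf 0)) (.node (.leaf 135) (.leaf 0) (.leaf 0) (.leaf 0)))) (.node (.node (.node (.leaf 0) (.leaf 59) (.leaf 1063) (.leaf 1258)) (.node (.leaf 85) (.leaf 0) (.leaf 0) (.leaf 0)) (.node (.leaf 879) (.leaf 0) (.leaf 0) (.leaf 0)) (.node (.leaf 1393) (.leaf 0) (.leaf 0) (.leaf 0))) (.node (.node (.leaf 78) (.leaf 0) (.leaf 0) (.leaf 0)) (.node (.leaf 0) (.leaf 34) (.leaf 1082) (.leaf 897)) (.node (.leaf 0) (.leaf 898) (.leaf 2140) (.leaf 843)) (.node (.leaf 0) (.leaf 730) (.leaf 1013) (.leaf 2244))) (.node (.node (.leaf 1777) (.leaf 0) (.leaf 0) (.leaf 0)) (.node (.leaf 0) (.leaf 700) (.leaf 2000) (.leaf 2242)) (.node (.leaf 0) (.leaf 1779) (.leaf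 1080) (.leaf 878)) (.node (.leaf 0) (.leaf 2433) (.leaf 714) (.leaf 439))) (.node (.node (.leaf 346) (.leaf 0) (.leaf 0) (.leaf 0)) (.node (.leaf 0) (.leaf 559) (.leaf 369) (.leaf 1915)) (.node (.leaf 0) (.leaf 290) (.leaf 1999) (.leaf 1198)) (.node (.leaf 0) (.leaf 1710) (.leaf 1061) (.leaf 1270)))) (.node (.node (.node (.leaf 0) (.leaf 1258) (.leaf 59) (.leaf 1063)) (.node (.leaf 1393) (.leaf 0) (.leaf 0) (.leaf 0)) (.node (.leaf 85) (.leaf 0) (.leaf 0) (.leaf 0)) (.node (.leaf 879) (.leaf 0) (.leaf 0) (.leaf 0))) (.node (.node (.leaf 346) (.leaf 0) (.leaf 0) (.leaf 0)) (.node (.leaf 0) (.leaf 1270) (.leaf 1710) (.leaf 1061)) (.node (.leaf 0) (.leaf 1915) (.leaf 559) (.leaf 369)) (.node (.leaf 0) (.leaf 1198) (.leaf 290) (.leaf 1999))) (.node (.node (.leaf 78) (.leaf 0) (.leaf 0) (.leaf 0)) (.node (.leaf 0) (.leaf 2244) (.leaf 730) (.leaf 1013)) (.node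 (.leaf 0) (.leaf 897) (.leaf 34) (.leaf 1082)) (.node (.leaf 0) (.leaf 843) (.leaf 898) (.leaf 2140))) (.node (.node (.leaf 1777) (.leaf 0) (.leaf 0) (.leaf 0)) (.node (.leaf 0) (.leaf 439) (.leaf 2433) (.leaf 714)) (.node (.leaf 0) (.leaf 2242) (.leaf 700) (.leaf 2000)) (.node (.leaf 0) (.leaf 878) (.leaf 1779) (.leaf 1080)))) (.node (.node (.node (.leaf 0) (.leaf 1063) (.leaf 1258) (.leaf 59)) (.node (.leaf 879) (.leaf 0) (.leaf 0) (.leaf 0)) (.node (.leaf 1393) (.leaf 0) (.leaf 0) (.leaf 0)) (.node (.leaf 85) (.leaf 0) (.leaf 0) (.leaf 0))) (.node (.node (.leaf 1777) (.leaf 0) (.leaf 0) (.leaf 0)) (.node (.leaf 0) (.leaf 1080) (.leaf 878) (.leaf 1779)) (.node (.leaf 0) (.leaf 714) (.leaf 439) (.leaf 2433)) (.node (.leaf 0) (.leaf 2000) (.leaf 2242) (.leaf 700))) (.node (.node (.leaf 346) (.leaf 0) (.leaf 0) (.leaf 0)) (.node (.leaf 0) (.leaf 1999)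 (.leaf 1198) (.leaf 290)) (.node (.leaf 0) (.leaf 1061) (.leaf 1270) (.leaf 1710)) (.node (.leaf 0) (.leaf 369) (.leaf 1915) (.leaf 559))) (.node (.node (.leaf 78) (.leaf 0) (.leaf 0) (.leaf 0)) (.node (.leaf 0) (.leaf 2140) (.leaf 843) (.leaf 898)) (.node (.leaf 0) (.leaf 1013) (.leaf 2244) (.leaf 730)) (.node (.leaf 0) (.leaf 1082) (.leaf 897) (.leaf 34)))))
def codeTree1 : SporBound.Q ℕ := (.node (.node (.node (.node (.leaf 0) (.leaf 29) (.leaf 747) (.leaf 1647)) (.node (.leaf 54) (.leaf 0) (.leaf 0) (.leaf 0)) (.node (.leaf 593) (.leaf 0) (.leaf 0) (.leaf 0)) (.node (.leaf 1775) (.leaf 0) (.leaf 0) (.leaf 0))) (.node (.node (.leaf 56) (.leaf 0) (.leaf 0) (.leaf 0)) (.node (.leaf 0) (.leaf 27) (.leaf 1412) (.leaf 580)) (.node (.leaf 0) (.leaf 1221) (.leaf 2627) (.leaf 552)) (.node (.leaf 0) (.leaf 457) (.leaf 691) (.leaf 2757))) (.node (.node (.leaf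 1398) (.leaf 0) (.leaf 0) (.leaf 0)) (.node (.leaf 0) (.leaf 1028) (.leaf 1617) (.leaf 2683)) (.node (.leaf 0) (.leaf 1423) (.leaf 745) (.leaf 569)) (.node (.leaf 0) (.leaf 2856) (.leaf 450) (.leaf 692))) (.node (.node (.leaf 222) (.leaf 0) (.leaf 0) (.leaf 0)) (.node (.leaf 0) (.leaf 543) (.leaf 231) (.leaf 1565)) (.node (.leaf 0) (.leaf 184) (.leaf 1616) (.leaf 1537)) (.node (.leaf 0) (.leaf 1376) (.leaf 1410) (.leaf 1668)))) (.node (.node (.node (.leaf 11) (.leaf 0) (.leaf 0) (.leaf 0)) (.node (.leaf 0) (.leaf 83) (.leaf 694) (.leaf 1614)) (.node (.leaf 0) (.leaf 590) (.leaf 3006) (.leaf 710)) (.node (.leaf 0) (.leaf 1774) (.leaf 873) (.leaf 2877))) (.node (.node (.leaf 0) (.leaf 28) (.leaf 1539) (.leaf 283)) (.node (.leaf 7) (.leaf 0) (.leaf 0) (.leaf 0)) (.node (.leaf 1357) (.leaf 0) (.leaf 0) (.leaf 0)) (.node (.leaf 358) (.leaf 0) (.leaf 0) (.leaf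 0))) (.node (.node (.leaf 0) (.leaf 1397) (.leaf 1744) (.leaf 2378)) (.node (.leaf 1211) (.leaf 0) (.leaf 0) (.leaf 0)) (.node (.leaf 1551) (.leaf 0) (.leaf 0) (.leaf 0)) (.node (.leaf 2608) (.leaf 0) (.leaf 0) (.leaf 0))) (.node (.node (.leaf 0) (.leaf 343) (.leaf 182) (.leaf 1437)) (.node (.leaf 431) (.leaf 0) (.leaf 0) (.leaf 0)) (.node (.leaf 145) (.leaf 0) (.leaf 0) (.leaf 0)) (.node (.leaf 1238) (.leaf 0) (.leaf 0) (.leaf 0)))) (.node (.node (.node (.leaf 913) (.leaf 0) (.leaf 0) (.leaf 0)) (.node (.leaf 0) (.leaf 554) (.leaf 2548) (.leaf 863)) (.node (.leaf 0) (.leaf 2772) (.leaf 1216) (.leaf 546)) (.node (.leaf 0) (.leaf 1041) (.leaf 435) (.leaf 857))) (.node (.node (.leaf 0) (.leaf 1728) (.leaf 2294) (.leaf 685)) (.node (.leaf 1602) (.leaf 0) (.leaf 0) (.leaf 0)) (.node (.leaf 2431) (.leaf 0) (.leaf 0) (.leaf 0)) (.node (.leaf 836) (.leaf 0)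 (.leaf 0) (.leaf 0))) (.node (.node (.leaf 0) (.leaf 1960) (.leaf 466) (.leaf 447)) (.node (.leaf 1828) (.leaf 0) (.leaf 0) (.leaf 0)) (.node (.leaf 592) (.leaf 0) (.leaf 0) (.leaf 0)) (.node (.leaf 354) (.leaf 0) (.leaf 0) (.leaf 0))) (.node (.node (.leaf 0) (.leaf 229) (.leaf 1986) (.leaf 1035)) (.node (.leaf 289) (.leaf 0) (.leaf 0) (.leaf 0)) (.node (.leaf 1826) (.leaf 0) (.leaf 0) (.leaf 0)) (.node (.leaf 1220) (.leaf 0) (.leaf 0) (.leaf 0)))) (.node (.node (.node (.leaf 1474) (.leaf 0) (.leaf 0) (.leaf 0)) (.node (.leaf 0) (.leaf 1421) (.leaf 704) (.leaf 2551)) (.node (.leaf 0) (.leaf 565) (.leaf 680) (.leaf 1215)) (.node (.leaf 0) (.leaf 2690) (.leaf 1031) (.leaf 280))) (.node (.node (.leaf 0) (.leaf 360) (.leaf 547) (.leaf 2292)) (.node (.leaf 460) (.leaf 0) (.leaf 0) (.leaf 0)) (.node (.leaf 436) (.leaf 0) (.leaf 0) (.leaf 0)) (.node (.leaf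 2512) (.leaf 0) (.leaf 0) (.leaf 0))) (.node (.node (.leaf 0) (.leaf 2175) (.leaf 564) (.leaf 463)) (.node (.leaf 2426) (.leaf 0) (.leaf 0) (.leaf 0)) (.node (.leaf 708) (.leaf 0) (.leaf 0) (.leaf 0)) (.node (.leaf 589) (.leaf 0) (.leaf 0) (.leaf 0))) (.node (.node (.leaf 0) (.leaf 1637) (.leaf 1172) (.leaf 1988)) (.node (.leaf 1764) (.leaf 0) (.leaf 0) (.leaf 0)) (.node (.leaf 1356) (.leaf 0) (.leaf 0) (.leaf 0)) (.node (.leaf 1853) (.leaf 0) (.leaf 0) (.leaf 0)))))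
def codeTree2 : SporBound.Q ℕ := (.node (.node (.node (.node (.leaf 0) (.leaf 1647) (.leaf 29) (.leaf 747)) (.node (.leaf 1775) (.leaf 0) (.leaf 0) (.leaf 0)) (.node (.leaf 54) (.leaf 0) (.leaf 0) (.leaf 0)) (.node (.leaf 593) (.leaf 0) (.leaf 0) (.leaf 0))) (.node (.node (.leaf 222) (.leaf 0) (.leaf 0) (.leaf 0)) (.node (.leaf 0) (.leaf 1668) (.leaf 1376) (.leaf 1410)) (.node (.leaf 0) (.leaf 1565) (.leaf 543) (.leaf 231)) (.node (.leaf 0) (.leaf 1537) (.leaf 184) (.leaf 1616))) (.node (.node (.leaf 56) (.leaf 0) (.leaf 0) (.leaf 0)) (.node (.leaf 0) (.leaf 2757) (.leaf 457) (.leaf 691)) (.node (.leaf 0) (.leaf 580) (.leaf 27) (.leaf 1412)) (.node (.leaf 0) (.leaf 552) (.leaf 1221) (.leaf 2627))) (.node (.node (.leaf 1398) (.leaf 0) (.leaf 0) (.leaf 0)) (.node (.leaf 0) (.leaf 692) (.leaf 2856) (.leaf 450)) (.node (.leaf 0) (.leaf 2683) (.leaf 1028)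 (.leaf 1617)) (.node (.leaf 0) (.leaf 569) (.leaf 1423) (.leaf 745)))) (.node (.node (.node (.leaf 1474) (.leaf 0) (.leaf 0) (.leaf 0)) (.node (.leaf 0) (.leaf 280) (.leaf 2690) (.leaf 1031)) (.node (.leaf 0) (.leaf 2551) (.leaf 1421) (.leaf 704)) (.node (.leaf 0) (.leaf 1215) (.leaf 565) (.leaf 680))) (.node (.node (.leaf 0) (.leaf 1988) (.leaf 1637) (.leaf 1172)) (.node (.leaf 1853) (.leaf 0) (.leaf 0) (.leaf 0)) (.node (.leaf 1764) (.leaf 0) (.leaf 0) (.leaf 0)) (.node (.leaf 1356) (.leaf 0) (.leaf 0) (.leaf 0))) (.node (.node (.leaf 0) (.leaf 2292) (.leaf 360) (.leaf 547)) (.node (.leaf 2512) (.leaf 0) (.leaf 0) (.leaf 0)) (.node (.leaf 460) (.leaf 0) (.leaf 0) (.leaf 0)) (.node (.leaf 436) (.leaf 0) (.leaf 0) (.leaf 0))) (.node (.node (.leaf 0) (.leaf 463) (.leaf 2175) (.leaf 564)) (.node (.leaf 589) (.leaf 0) (.leaf 0) (.leaf 0)) (.node (.leaf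 2426) (.leaf 0) (.leaf 0) (.leaf 0)) (.node (.leaf 708) (.leaf 0) (.leaf 0) (.leaf 0)))) (.node (.node (.node (.leaf 11) (.leaf 0) (.leaf 0) (.leaf 0)) (.node (.leaf 0) (.leaf 2877) (.leaf 1774) (.leaf 873)) (.node (.leaf 0) (.leaf 1614) (.leaf 83) (.leaf 694)) (.node (.leaf 0) (.leaf 710) (.leaf 590) (.leaf 3006))) (.node (.node (.leaf 0) (.leaf 1437) (.leaf 343) (.leaf 182)) (.node (.leaf 1238) (.leaf 0) (.leaf 0) (.leaf 0)) (.node (.leaf 431) (.leaf 0) (.leaf 0) (.leaf 0)) (.node (.leaf 145) (.leaf 0) (.leaf 0) (.leaf 0))) (.node (.node (.leaf 0) (.leaf 283) (.leaf 28) (.leaf 1539)) (.node (.leaf 358) (.leaf 0) (.leaf 0) (.leaf 0)) (.node (.leaf 7) (.leaf 0) (.leaf 0) (.leaf 0)) (.node (.leaf 1357) (.leaf 0) (.leaf 0) (.leaf 0))) (.node (.node (.leaf 0) (.leaf 2378) (.leaf 1397) (.leaf 1744)) (.node (.leaf 2608) (.leaf 0) (.leaf 0) (.leaf 0)) (.node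 (.leaf 1211) (.leaf 0) (.leaf 0) (.leaf 0)) (.node (.leaf 1551) (.leaf 0) (.leaf 0) (.leaf 0)))) (.node (.node (.node (.leaf 913) (.leaf 0) (.leaf 0) (.leaf 0)) (.node (.leaf 0) (.leaf 857) (.leaf 1041) (.leaf 435)) (.node (.leaf 0) (.leaf 863) (.leaf 554) (.leaf 2548)) (.node (.leaf 0) (.leaf 546) (.leaf 2772) (.leaf 1216))) (.node (.node (.leaf 0) (.leaf 1035) (.leaf 229) (.leaf 1986)) (.node (.leaf 1220) (.leaf 0) (.leaf 0) (.leaf 0)) (.node (.leaf 289) (.leaf 0) (.leaf 0) (.leaf 0)) (.node (.leaf 1826) (.leaf 0) (.leaf 0) (.leaf 0))) (.node (.node (.leaf 0) (.leaf 685) (.leaf 1728) (.leaf 2294)) (.node (.leaf 836) (.leaf 0) (.leaf 0) (.leaf 0)) (.node (.leaf 1602) (.leaf 0) (.leaf 0) (.leaf 0)) (.node (.leaf 2431) (.leaf 0) (.leaf 0) (.leaf 0))) (.node (.node (.leaf 0) (.leaf 447) (.leaf 1960) (.leaf 466)) (.node (.leaf 354) (.leaf 0) (.leaf 0)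 (.leaf 0)) (.node (.leaf 1828) (.leaf 0) (.leaf 0) (.leaf 0)) (.node (.leaf 592) (.leaf 0) (.leaf 0) (.leaf 0)))))
def codeTree3 : SporBound.Q ℕ := (.node (.node (.node (.node (.leaf 0) (.leaf 747) (.leaf 1647) (.leaf 29)) (.node (.leaf 593) (.leaf 0) (.leaf 0) (.leaf 0)) (.node (.leaf 1775) (.leaf 0) (.leaf 0) (.leaf 0)) (.node (.leaf 54) (.leaf 0) (.leaf 0) (.leaf 0))) (.node (.node (.leaf 1398) (.leaf 0) (.leaf 0) (.leaf 0)) (.node (.leaf 0) (.leaf 745) (.leaf 569) (.leaf 1423)) (.node (.leaf 0) (.leaf 450) (.leaf 692) (.leaf 2856)) (.node (.leaf 0) (.leaf 1617) (.leaf 2683) (.leaf 1028))) (.node (.node (.leaf 222) (.leaf 0) (.leaf 0) (.leaf 0)) (.node (.leaf 0) (.leaf 1616) (.leaf 1537) (.leaf 184)) (.node (.leaf 0) (.leaf 1410) (.leaf 1668) (.leaf 1376)) (.node (.leaf 0) (.leaf 231) (.leaf 1565) (.leaf 543))) (.node (.node (.leaf 56) (.leaf 0)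 (.leaf 0) (.leaf 0)) (.node (.leaf 0) (.leaf 2627) (.leaf 552) (.leaf 1221)) (.node (.leaf 0) (.leaf 691) (.leaf 2757) (.leaf 457)) (.node (.leaf 0) (.leaf 1412) (.leaf 580) (.leaf 27)))) (.node (.node (.node (.leaf 913) (.leaf 0) (.leaf 0) (.leaf 0)) (.node (.leaf 0) (.leaf 1216) (.leaf 546) (.leaf 2772)) (.node (.leaf 0) (.leaf 435) (.leaf 857) (.leaf 1041)) (.node (.leaf 0) (.leaf 2548) (.leaf 863) (.leaf 554))) (.node (.node (.leaf 0) (.leaf 466) (.leaf 447) (.leaf 1960)) (.node (.leaf 592) (.leaf 0) (.leaf 0) (.leaf 0)) (.node (.leaf 354) (.leaf 0) (.leaf 0) (.leaf 0)) (.node (.leaf 1828) (.leaf 0) (.leaf 0) (.leaf 0))) (.node (.node (.leaf 0) (.leaf 1986) (.leaf 1035) (.leaf 229)) (.node (.leaf 1826) (.leaf 0) (.leaf 0) (.leaf 0)) (.node (.leaf 1220) (.leaf 0) (.leaf 0) (.leaf 0)) (.node (.leaf 289) (.leaf 0) (.leaf 0) (.leaf 0))) (.node (.node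 (.leaf 0) (.leaf 2294) (.leaf 685) (.leaf 1728)) (.node (.leaf 2431) (.leaf 0) (.leaf 0) (.leaf 0)) (.node (.leaf 836) (.leaf 0) (.leaf 0) (.leaf 0)) (.node (.leaf 1602) (.leaf 0) (.leaf 0) (.leaf 0)))) (.node (.node (.node (.leaf 1474) (.leaf 0) (.leaf 0) (.leaf 0)) (.node (.leaf 0) (.leaf 680) (.leaf 1215) (.leaf 565)) (.node (.leaf 0) (.leaf 1031) (.leaf 280) (.leaf 2690)) (.node (.leaf 0) (.leaf 704) (.leaf 2551) (.leaf 1421))) (.node (.node (.leaf 0) (.leaf 564) (.leaf 463) (.leaf 2175)) (.node (.leaf 708) (.leaf 0) (.leaf 0) (.leaf 0)) (.node (.leaf 589) (.leaf 0) (.leaf 0) (.leaf 0)) (.node (.leaf 2426) (.leaf 0) (.leaf 0) (.leaf 0))) (.node (.node (.leaf 0) (.leaf 1172) (.leaf 1988) (.leaf 1637)) (.node (.leaf 1356) (.leaf 0) (.leaf 0) (.leaf 0)) (.node (.leaf 1853) (.leaf 0) (.leaf 0) (.leaf 0)) (.node (.leaf 1764) (.leaf 0) (.leaf 0) (.leaf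 0))) (.node (.node (.leaf 0) (.leaf 547) (.leaf 2292) (.leaf 360)) (.node (.leaf 436) (.leaf 0) (.leaf 0) (.leaf 0)) (.node (.leaf 2512) (.leaf 0) (.leaf 0) (.leaf 0)) (.node (.leaf 460) (.leaf 0) (.leaf 0) (.leaf 0)))) (.node (.node (.node (.leaf 11) (.leaf 0) (.leaf 0) (.leaf 0)) (.node (.leaf 0) (.leaf 3006) (.leaf 710) (.leaf 590)) (.node (.leaf 0) (.leaf 873) (.leaf 2877) (.leaf 1774)) (.node (.leaf 0) (.leaf 694) (.leaf 1614) (.leaf 83))) (.node (.node (.leaf 0) (.leaf 1744) (.leaf 2378) (.leaf 1397)) (.node (.leaf 1551) (.leaf 0) (.leaf 0) (.leaf 0)) (.node (.leaf 2608) (.leaf 0) (.leaf 0) (.leaf 0)) (.node (.leaf 1211) (.leaf 0) (.leaf 0) (.leaf 0))) (.node (.node (.leaf 0) (.leaf 182) (.leaf 1437) (.leaf 343)) (.node (.leaf 145) (.leaf 0) (.leaf 0) (.leaf 0)) (.node (.leaf 1238) (.leaf 0) (.leaf 0) (.leaf 0)) (.node (.leaf 431) (.leaf 0) (.leaf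 0) (.leaf 0))) (.node (.node (.leaf 0) (.leaf 1539) (.leaf 283) (.leaf 28)) (.node (.leaf 1357) (.leaf 0) (.leaf 0) (.leaf 0)) (.node (.leaf 358) (.leaf 0) (.leaf 0) (.leaf 0)) (.node (.leaf 7) (.leaf 0) (.leaf 0) (.leaf 0)))))
def codeTree4 : SporBound.Q ℕ := (.node (.node (.node (.node (.leaf 0) (.leaf 32) (.leaf 907) (.leaf 1451)) (.node (.leaf 57) (.leaf 0) (.leaf 0) (.leaf 0)) (.node (.leaf 737) (.leaf 0) (.leaf 0) (.leaf 0)) (.node (.leaf 1579) (.leaf 0) (.leaf 0) (.leaf 0))) (.node (.node (.leaf 53) (.leaf 0) (.leaf 0) (.leaf 0)) (.node (.leaf 0) (.leaf 9) (.leaf 1237) (.leaf 731)) (.node (.leaf 0) (.leaf 1047) (.leaf 2381) (.leaf 690)) (.node (.leaf 0) (.leaf 579) (.leaf 844) (.leaf 2500))) (.node (.node (.leaf 1582) (.leaf 0) (.leaf 0) (.leaf 0)) (.node (.leaf 0) (.leaf 856) (.leaf 1789) (.leaf 2497)) (.node (.leaf 0) (.leaf 1590) (.leaf 905)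 (.leaf 715)) (.node (.leaf 0) (.leaf 2691) (.leaf 568) (.leaf 553))) (.node (.node (.leaf 273) (.leaf 0) (.leaf 0) (.leaf 0)) (.node (.leaf 0) (.leaf 444) (.leaf 291) (.leaf 1730)) (.node (.leaf 0) (.leaf 230) (.leaf 1788) (.leaf 1373)) (.node (.leaf 0) (.leaf 1540) (.leaf 1235) (.leaf 1468)))) (.node (.node (.node (.leaf 10) (.leaf 0) (.leaf 0) (.leaf 0)) (.node (.leaf 0) (.leaf 81) (.leaf 555) (.leaf 1786)) (.node (.leaf 0) (.leaf 470) (.leaf 2758) (.leaf 566)) (.node (.leaf 0) (.leaf 1995) (.leaf 711) (.leaf 2628))) (.node (.node (.leaf 0) (.leaf 31) (.leaf 1375) (.leaf 359)) (.node (.leaf 8) (.leaf 0) (.leaf 0) (.leaf 0)) (.node (.leaf 1185) (.leaf 0) (.leaf 0) (.leaf 0)) (.node (.leaf 456) (.leaf 0) (.leaf 0) (.leaf 0))) (.node (.node (.leaf 0) (.leaf 1212) (.leaf 1922) (.leaf 2624)) (.node (.leaf 1029) (.leaf 0) (.leaf 0) (.leaf 0)) (.node (.leaf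 1716) (.leaf 0) (.leaf 0) (.leaf 0)) (.node (.leaf 2855) (.leaf 0) (.leaf 0) (.leaf 0))) (.node (.node (.leaf 0) (.leaf 278) (.leaf 228) (.leaf 1604)) (.node (.leaf 351) (.leaf 0) (.leaf 0) (.leaf 0)) (.node (.leaf 183) (.leaf 0) (.leaf 0) (.leaf 0)) (.node (.leaf 1413) (.leaf 0) (.leaf 0) (.leaf 0)))) (.node (.node (.node (.leaf 1091) (.leaf 0) (.leaf 0) (.leaf 0)) (.node (.leaf 0) (.leaf 440) (.leaf 2637) (.leaf 705)) (.node (.leaf 0) (.leaf 2513) (.leaf 1403) (.leaf 446)) (.node (.leaf 0) (.leaf 864) (.leaf 353) (.leaf 701))) (.node (.node (.leaf 0) (.leaf 1563) (.leaf 2041) (.leaf 835)) (.node (.leaf 1435) (.leaf 0) (.leaf 0) (.leaf 0)) (.node (.leaf 2178) (.leaf 0) (.leaf 0) (.leaf 0)) (.node (.leaf 1003) (.leaf 0) (.leaf 0) (.leaf 0))) (.node (.node (.leaf 0) (.leaf 2149) (.leaf 583) (.leaf 563)) (.node (.leaf 2011) (.leaf 0) (.leaf 0) (.leaf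 0)) (.node (.leaf 736) (.leaf 0) (.leaf 0) (.leaf 0)) (.node (.leaf 449) (.leaf 0) (.leaf 0) (.leaf 0))) (.node (.node (.leaf 0) (.leaf 288) (.leaf 2233) (.leaf 867)) (.node (.leaf 367) (.leaf 0) (.leaf 0) (.leaf 0)) (.node (.leaf 2009) (.leaf 0) (.leaf 0) (.leaf 0)) (.node (.leaf 1046) (.leaf 0) (.leaf 0) (.leaf 0)))) (.node (.node (.node (.leaf 1278) (.leaf 0) (.leaf 0) (.leaf 0)) (.node (.leaf 0) (.leaf 1588) (.leaf 562) (.leaf 2295)) (.node (.leaf 0) (.leaf 448) (.leaf 560) (.leaf 1032)) (.node (.leaf 0) (.leaf 2432) (.leaf 858) (.leaf 347))) (.node (.node (.leaf 0) (.leaf 459) (.leaf 684) (.leaf 2389)) (.node (.leaf 584) (.leaf 0) (.leaf 0) (.leaf 0)) (.node (.leaf 551) (.leaf 0) (.leaf 0) (.leaf 0)) (.node (.leaf 2258) (.leaf 0) (.leaf 0) (.leaf 0))) (.node (.node (.leaf 0) (.leaf 2428) (.leaf 707) (.leaf 366)) (.node (.leaf 2255) (.leaf 0) (.leaf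 0) (.leaf 0)) (.node (.leaf 868) (.leaf 0) (.leaf 0) (.leaf 0)) (.node (.leaf 469) (.leaf 0) (.leaf 0) (.leaf 0))) (.node (.node (.leaf 0) (.leaf 1809) (.leaf 1002) (.leaf 1763)) (.node (.leaf 1942) (.leaf 0) (.leaf 0) (.leaf 0)) (.node (.leaf 1184) (.leaf 0) (.leaf 0) (.leaf 0)) (.node (.leaf 1636) (.leaf 0) (.leaf 0) (.leaf 0)))))
def codeTree5 : SporBound.Q ℕ := (.node (.node (.node (.node (.leaf 12) (.leaf 0) (.leaf 0) (.leaf 0)) (.node (.leaf 0) (.leaf 109) (.leaf 849) (.leaf 1443)) (.node (.leaf 0) (.leaf 726) (.leaf 3217) (.leaf 872)) (.node (.leaf 0) (.leaf 1578) (.leaf 1052) (.leaf 3103))) (.node (.node (.leaf 0) (.leaf 50) (.leaf 1709) (.leaf 225)) (.node (.leaf 26) (.leaf 0) (.leaf 0) (.leaf 0)) (.node (.leaf 1525) (.leaf 0) (.leaf 0) (.leaf 0)) (.node (.leaf 282) (.leaf 0) (.leaf 0) (.leaf 0))) (.node (.node (.leaf 0) (.leaf 1580) (.leaf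 1667) (.leaf 2138)) (.node (.leaf 1396) (.leaf 0) (.leaf 0) (.leaf 0)) (.node (.leaf 1734) (.leaf 0) (.leaf 0) (.leaf 0)) (.node (.leaf 2364) (.leaf 0) (.leaf 0) (.leaf 0))) (.node (.node (.leaf 0) (.leaf 434) (.leaf 144) (.leaf 1272)) (.node (.leaf 545) (.leaf 0) (.leaf 0) (.leaf 0)) (.node (.leaf 114) (.leaf 0) (.leaf 0) (.leaf 0)) (.node (.leaf 1083) (.leaf 0) (.leaf 0) (.leaf 0)))) (.node (.node (.node (.leaf 0) (.leaf 173) (.leaf 1027) (.leaf 1210)) (.node (.leaf 139) (.leaf 0) (.leaf 0) (.leaf 0)) (.node (.leaf 854) (.leaf 0) (.leaf 0) (.leaf 0)) (.node (.leaf 1394) (.leaf 0) (.leaf 0) (.leaf 0))) (.node (.node (.leaf 77) (.leaf 0) (.leaf 0) (.leaf 0)) (.node (.leaf 0) (.leaf 637) (.leaf 136) (.leaf 108)) (.node (.leaf 0) (.leaf 170) (.leaf 433) (.leaf 1247)) (.node (.leaf 0) (.leaf 80) (.leaf 1053) (.leaf 112))) (.node (.node (.leaf 1776) (.leaf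 0) (.leaf 0) (.leaf 0)) (.node (.leaf 0) (.leaf 86) (.leaf 87) (.leaf 113)) (.node (.leaf 0) (.leaf 62) (.leaf 138) (.leaf 1201)) (.node (.leaf 0) (.leaf 88) (.leaf 1395) (.leaf 1707))) (.node (.node (.leaf 548) (.leaf 0) (.leaf 0) (.leaf 0)) (.node (.leaf 0) (.leaf 678) (.leaf 1912) (.leaf 345)) (.node (.leaf 0) (.leaf 2125) (.leaf 143) (.leaf 885)) (.node (.leaf 0) (.leaf 437) (.leaf 1025) (.leaf 106)))) (.node (.node (.node (.leaf 0) (.leaf 884) (.leaf 3399) (.leaf 1381)) (.node (.leaf 719) (.leaf 0) (.leaf 0) (.leaf 0)) (.node (.leaf 3280) (.leaf 0) (.leaf 0) (.leaf 0)) (.node (.leaf 1245) (.leaf 0) (.leaf 0) (.leaf 0))) (.node (.node (.leaf 1913) (.leaf 0) (.leaf 0) (.leaf 0)) (.node (.leaf 0) (.leaf 107) (.leaf 430) (.leaf 1062)) (.node (.leaf 0) (.leaf 342) (.leaf 60) (.leaf 549)) (.node (.leaf 0) (.leaf 893) (.leaf 682) (.leaf 1998))) (.node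 (.node (.leaf 1470) (.leaf 0) (.leaf 0) (.leaf 0)) (.node (.leaf 0) (.leaf 111) (.leaf 213) (.leaf 1392)) (.node (.leaf 0) (.leaf 171) (.leaf 427) (.leaf 1467)) (.node (.leaf 0) (.leaf 1577) (.leaf 1543) (.leaf 2141))) (.node (.node (.leaf 180) (.leaf 0) (.leaf 0) (.leaf 0)) (.node (.leaf 0) (.leaf 1708) (.leaf 224) (.leaf 697)) (.node (.leaf 0) (.leaf 179) (.leaf 679) (.leaf 2498)) (.node (.leaf 0) (.leaf 853) (.leaf 2692) (.leaf 1081)))) (.node (.node (.node (.leaf 0) (.leaf 1069) (.leaf 1191) (.leaf 3400)) (.node (.leaf 1246) (.leaf 0) (.leaf 0) (.leaf 0)) (.node (.leaf 1008) (.leaf 0) (.leaf 0) (.leaf 0)) (.node (.leaf 3283) (.leaf 0) (.leaf 0) (.leaf 0))) (.node (.node (.leaf 181) (.leaf 0) (.leaf 0) (.leaf 0)) (.node (.leaf 0) (.leaf 137) (.leaf 1257) (.leaf 178)) (.node (.leaf 0) (.leaf 1444) (.leaf 472) (.leaf 1581)) (.node (.leaf 0) (.leaf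 141) (.leaf 1778) (.leaf 541))) (.node (.node (.leaf 1914) (.leaf 0) (.leaf 0) (.leaf 0)) (.node (.leaf 0) (.leaf 142) (.leaf 1199) (.leaf 1347)) (.node (.leaf 0) (.leaf 1026) (.leaf 1271) (.leaf 2609)) (.node (.leaf 0) (.leaf 1524) (.leaf 2379) (.leaf 542))) (.node (.node (.leaf 1469) (.leaf 0) (.leaf 0) (.leaf 0)) (.node (.leaf 0) (.leaf 272) (.leaf 575) (.leaf 51)) (.node (.leaf 0) (.leaf 725) (.leaf 2245) (.leaf 1361)) (.node (.leaf 0) (.leaf 79) (.leaf 1269) (.leaf 443)))))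
def codeTree6 : SporBound.Q ℕ := (.node (.node (.node (.node (.leaf 1279) (.leaf 0) (.leaf 0) (.leaf 0)) (.node (.leaf 0) (.leaf 355) (.leaf 2937) (.leaf 1214)) (.node (.leaf 0) (.leaf 2687) (.leaf 1228) (.leaf 832)) (.node (.leaf 0) (.leaf 1401) (.leaf 687) (.leaf 828))) (.node (.node (.leaf 0) (.leaf 2177) (.leaf 1854) (.leaf 993)) (.node (.leaf 2040) (.leaf 0) (.leaf 0) (.leaf 0)) (.node (.leaf 1989) (.leaf 0) (.leaf 0) (.leaf 0)) (.node (.leaf 1173) (.leaf 0) (.leaf 0) (.leaf 0))) (.node (.node (.leaf 0) (.leaf 2039) (.leaf 287) (.leaf 432)) (.node (.leaf 2291) (.leaf 0) (.leaf 0) (.leaf 0)) (.node (.leaf 365) (.leaf 0) (.leaf 0) (.leaf 0)) (.node (.leaf 344) (.leaf 0) (.leaf 0) (.leaf 0))) (.node (.node (.leaf 0) (.leaf 362) (.leaf 1940) (.leaf 703)) (.node (.leaf 464) (.leaf 0) (.leaf 0) (.leaf 0)) (.node (.leaf 2174) (.leaf 0) (.leaf 0) (.leaf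 0)) (.node (.leaf 861) (.leaf 0) (.leaf 0) (.leaf 0)))) (.node (.node (.node (.leaf 0) (.leaf 572) (.leaf 3087) (.leaf 1714)) (.node (.leaf 452) (.leaf 0) (.leaf 0) (.leaf 0)) (.node (.leaf 2874) (.leaf 0) (.leaf 0) (.leaf 0)) (.node (.leaf 1587) (.leaf 0) (.leaf 0) (.leaf 0))) (.node (.node (.leaf 2380) (.leaf 0) (.leaf 0) (.leaf 0)) (.node (.leaf 0) (.leaf 84) (.leaf 276) (.leaf 716)) (.node (.leaf 0) (.leaf 220) (.leaf 52) (.leaf 837)) (.node (.leaf 0) (.leaf 577) (.leaf 995) (.leaf 2499))) (.node (.node (.leaf 1810) (.leaf 0) (.leaf 0) (.leaf 0)) (.node (.leaf 0) (.leaf 174) (.leaf 335) (.leaf 1727)) (.node (.leaf 0) (.leaf 267) (.leaf 275) (.leaf 1715)) (.node (.leaf 0) (.leaf 1939) (.leaf 1530) (.leaf 1765))) (.node (.node (.leaf 284) (.leaf 0) (.leaf 0) (.leaf 0)) (.node (.leaf 0) (.leaf 1349) (.leaf 341) (.leaf 442)) (.node (.leaf 0) (.leaf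 271) (.leaf 988) (.leaf 2936)) (.node (.leaf 0) (.leaf 558) (.leaf 3086) (.leaf 732)))) (.node (.node (.node (.leaf 0) (.leaf 3271) (.leaf 886) (.leaf 1009)) (.node (.leaf 3160) (.leaf 0) (.leaf 0) (.leaf 0)) (.node (.leaf 1054) (.leaf 0) (.leaf 0) (.leaf 0)) (.node (.leaf 839) (.leaf 0) (.leaf 0) (.leaf 0))) (.node (.node (.leaf 1669) (.leaf 0) (.leaf 0) (.leaf 0)) (.node (.leaf 0) (.leaf 349) (.leaf 55) (.leaf 1090)) (.node (.leaf 0) (.leaf 30) (.leaf 217) (.leaf 454)) (.node (.leaf 0) (.leaf 1176) (.leaf 576) (.leaf 2012))) (.node (.node (.leaf 227) (.leaf 0) (.leaf 0) (.leaf 0)) (.node (.leaf 0) (.leaf 425) (.leaf 175) (.leaf 1589)) (.node (.leaf 0) (.leaf 219) (.leaf 172) (.leaf 1434)) (.node (.leaf 0) (.leaf 1402) (.leaf 1634) (.leaf 371))) (.node (.node (.leaf 1729) (.leaf 0) (.leaf 0) (.leaf 0)) (.node (.leaf 0) (.leaf 429) (.leaf 1348) (.leaf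 2625)) (.node (.leaf 0) (.leaf 1165) (.leaf 177) (.leaf 1015)) (.node (.leaf 0) (.leaf 2857) (.leaf 855) (.leaf 1436)))) (.node (.node (.node (.leaf 0) (.leaf 1529) (.leaf 1180) (.leaf 1169)) (.node (.leaf 1351) (.leaf 0) (.leaf 0) (.leaf 0)) (.node (.leaf 998) (.leaf 0) (.leaf 0) (.leaf 0)) (.node (.leaf 991) (.leaf 0) (.leaf 0) (.leaf 0))) (.node (.node (.leaf 829) (.leaf 0) (.leaf 0) (.leaf 0)) (.node (.leaf 0) (.leaf 869) (.leaf 906) (.leaf 2038)) (.node (.leaf 0) (.leaf 744) (.leaf 356) (.leaf 2492)) (.node (.leaf 0) (.leaf 2257) (.leaf 2256) (.leaf 1174))) (.node (.node (.leaf 544) (.leaf 0) (.leaf 0) (.leaf 0)) (.node (.leaf 0) (.leaf 1538) (.leaf 1787) (.leaf 2232)) (.node (.leaf 0) (.leaf 1921) (.leaf 1236) (.leaf 594)) (.node (.leaf 0) (.leaf 1987) (.leaf 471) (.leaf 223))) (.node (.node (.leaf 561) (.leaf 0) (.leaf 0) (.leaf 0)) (.node (.leaf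 0) (.leaf 348) (.leaf 2429) (.leaf 465)) (.node (.leaf 0) (.leaf 2684) (.leaf 1186) (.leaf 1827)) (.node (.leaf 0) (.leaf 585) (.leaf 1635) (.leaf 1222)))))
def codeTree7 : SporBound.Q ℕ := (.node (.node (.node (.node (.leaf 1093) (.leaf 0) (.leaf 0) (.leaf 0)) (.node (.leaf 0) (.leaf 1042) (.leaf 683) (.leaf 2939)) (.node (.leaf 0) (.leaf 550) (.leaf 990) (.leaf 1226)) (.node (.leaf 0) (.leaf 2769) (.leaf 1040) (.leaf 451))) (.node (.node (.leaf 0) (.leaf 364) (.leaf 352) (.leaf 1852)) (.node (.leaf 467) (.leaf 0) (.leaf 0) (.leaf 0)) (.node (.leaf 279) (.leaf 0) (.leaf 0) (.leaf 0)) (.node (.leaf 2060) (.leaf 0) (.leaf 0) (.leaf 0))) (.node (.node (.leaf 0) (.leaf 1762) (.leaf 860) (.leaf 285)) (.node (.leaf 1985) (.leaf 0) (.leaf 0) (.leaf 0)) (.node (.leaf 1036) (.leaf 0) (.leaf 0) (.leaf 0)) (.node (.leaf 363) (.leaf 0) (.leaf 0) (.leaf 0))) (.node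 (.node (.leaf 0) (.leaf 2085) (.leaf 830) (.leaf 1941)) (.node (.leaf 2236) (.leaf 0) (.leaf 0) (.leaf 0)) (.node (.leaf 994) (.leaf 0) (.leaf 0) (.leaf 0)) (.node (.leaf 1808) (.leaf 0) (.leaf 0) (.leaf 0)))) (.node (.node (.node (.leaf 0) (.leaf 721) (.leaf 840) (.leaf 3163)) (.node (.leaf 874) (.leaf 0) (.leaf 0) (.leaf 0)) (.node (.leaf 688) (.leaf 0) (.leaf 0) (.leaf 0)) (.node (.leaf 3004) (.leaf 0) (.leaf 0) (.leaf 0))) (.node (.node (.leaf 286) (.leaf 0) (.leaf 0) (.leaf 0)) (.node (.leaf 0) (.leaf 215) (.leaf 1601) (.leaf 269)) (.node (.leaf 0) (.leaf 1806) (.leaf 292) (.leaf 1227)) (.node (.leaf 0) (.leaf 216) (.leaf 1422) (.leaf 336))) (.node (.node (.leaf 1564) (.leaf 0) (.leaf 0) (.leaf 0)) (.node (.leaf 0) (.leaf 218) (.leaf 845) (.leaf 989)) (.node (.leaf 0) (.leaf 699) (.leaf 1603) (.leaf 3085)) (.node (.leaf 0) (.leaf 1166) (.leaf 2873)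 (.leaf 350))) (.node (.node (.leaf 1881) (.leaf 0) (.leaf 0) (.leaf 0)) (.node (.leaf 0) (.leaf 176) (.leaf 357) (.leaf 33)) (.node (.leaf 0) (.leaf 455) (.leaf 1829) (.leaf 996)) (.node (.leaf 0) (.leaf 58) (.leaf 912) (.leaf 428)))) (.node (.node (.node (.leaf 0) (.leaf 999) (.leaf 1352) (.leaf 1365)) (.node (.leaf 833) (.leaf 0) (.leaf 0) (.leaf 0)) (.node (.leaf 1168) (.leaf 0) (.leaf 0) (.leaf 0)) (.node (.leaf 1179) (.leaf 0) (.leaf 0) (.leaf 0))) (.node (.node (.leaf 445) (.leaf 0) (.leaf 0) (.leaf 0)) (.node (.leaf 0) (.leaf 1411) (.leaf 468) (.leaf 1743)) (.node (.leaf 0) (.leaf 368) (.leaf 274) (.leaf 2176)) (.node (.leaf 0) (.leaf 1615) (.leaf 2427) (.leaf 1374))) (.node (.node (.leaf 702) (.leaf 0) (.leaf 0) (.leaf 0)) (.node (.leaf 0) (.leaf 1004) (.leaf 2037) (.leaf 2510)) (.node (.leaf 0) (.leaf 1807) (.leaf 1037) (.leaf 738)) (.node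 (.leaf 0) (.leaf 2686) (.leaf 591) (.leaf 441))) (.node (.node (.leaf 681) (.leaf 0) (.leaf 0) (.leaf 0)) (.node (.leaf 0) (.leaf 281) (.leaf 2234) (.leaf 595)) (.node (.leaf 0) (.leaf 2059) (.leaf 1358) (.leaf 2010)) (.node (.leaf 0) (.leaf 746) (.leaf 2148) (.leaf 1048)))) (.node (.node (.node (.leaf 0) (.leaf 3270) (.leaf 1549) (.leaf 720)) (.node (.leaf 3100) (.leaf 0) (.leaf 0) (.leaf 0)) (.node (.leaf 1420) (.leaf 0) (.leaf 0) (.leaf 0)) (.node (.leaf 571) (.leaf 0) (.leaf 0) (.leaf 0))) (.node (.node (.leaf 1638) (.leaf 0) (.leaf 0) (.leaf 0)) (.node (.leaf 0) (.leaf 339) (.leaf 1550) (.leaf 214)) (.node (.leaf 0) (.leaf 1366) (.leaf 1943) (.leaf 1761)) (.node (.leaf 0) (.leaf 266) (.leaf 1562) (.leaf 140))) (.node (.node (.leaf 226) (.leaf 0) (.leaf 0) (.leaf 0)) (.node (.leaf 0) (.leaf 827) (.leaf 2755) (.leaf 221)) (.node (.leaf 0) (.leaf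 2942) (.leaf 899) (.leaf 698)) (.node (.leaf 0) (.leaf 277) (.leaf 557) (.leaf 1526))) (.node (.node (.leaf 2139) (.leaf 0) (.leaf 0) (.leaf 0)) (.node (.leaf 0) (.leaf 35) (.leaf 686) (.leaf 270)) (.node (.leaf 0) (.leaf 831) (.leaf 2243) (.leaf 727)) (.node (.leaf 0) (.leaf 340) (.leaf 880) (.leaf 82)))))
def codeTree8 : SporBound.Q ℕ := (.node (.node (.node (.node (.leaf 0) (.leaf 1451) (.leaf 32) (.leaf 907)) (.node (.leaf 1579) (.leaf 0) (.leaf 0) (.leaf 0)) (.node (.leaf 57) (.leaf 0) (.leaf 0) (.leaf 0)) (.node (.leaf 737) (.leaf 0) (.leaf 0) (.leaf 0))) (.node (.node (.leaf 273) (.leaf 0) (.leaf 0) (.leaf 0)) (.node (.leaf 0) (.leaf 1468) (.leaf 1540) (.leaf 1235)) (.node (.leaf 0) (.leaf 1730) (.leaf 444) (.leaf 291)) (.node (.leaf 0) (.leaf 1373) (.leaf 230) (.leaf 1788))) (.node (.node (.leaf 53) (.leaf 0) (.leaf 0) (.leaf 0)) (.node (.leaf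 0) (.leaf 2500) (.leaf 579) (.leaf 844)) (.node (.leaf 0) (.leaf 731) (.leaf 9) (.leaf 1237)) (.node (.leaf 0) (.leaf 690) (.leaf 1047) (.leaf 2381))) (.node (.node (.leaf 1582) (.leaf 0) (.leaf 0) (.leaf 0)) (.node (.leaf 0) (.leaf 553) (.leaf 2691) (.leaf 568)) (.node (.leaf 0) (.leaf 2497) (.leaf 856) (.leaf 1789)) (.node (.leaf 0) (.leaf 715) (.leaf 1590) (.leaf 905)))) (.node (.node (.node (.leaf 1278) (.leaf 0) (.leaf 0) (.leaf 0)) (.node (.leaf 0) (.leaf 347) (.leaf 2432) (.leaf 858)) (.node (.leaf 0) (.leaf 2295) (.leaf 1588) (.leaf 562)) (.node (.leaf 0) (.leaf 1032) (.leaf 448) (.leaf 560))) (.node (.node (.leaf 0) (.leaf 1763) (.leaf 1809) (.leaf 1002)) (.node (.leaf 1636) (.leaf 0) (.leaf 0) (.leaf 0)) (.node (.leaf 1942) (.leaf 0) (.leaf 0) (.leaf 0)) (.node (.leaf 1184) (.leaf 0) (.leaf 0) (.leaf 0))) (.node (.node (.leaf 0) (.leaf 2389)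 (.leaf 459) (.leaf 684)) (.node (.leaf 2258) (.leaf 0) (.leaf 0) (.leaf 0)) (.node (.leaf 584) (.leaf 0) (.leaf 0) (.leaf 0)) (.node (.leaf 551) (.leaf 0) (.leaf 0) (.leaf 0))) (.node (.node (.leaf 0) (.leaf 366) (.leaf 2428) (.leaf 707)) (.node (.leaf 469) (.leaf 0) (.leaf 0) (.leaf 0)) (.node (.leaf 2255) (.leaf 0) (.leaf 0) (.leaf 0)) (.node (.leaf 868) (.leaf 0) (.leaf 0) (.leaf 0)))) (.node (.node (.node (.leaf 10) (.leaf 0) (.leaf 0) (.leaf 0)) (.node (.leaf 0) (.leaf 2628) (.leaf 1995) (.leaf 711)) (.node (.leaf 0) (.leaf 1786) (.leaf 81) (.leaf 555)) (.node (.leaf 0) (.leaf 566) (.leaf 470) (.leaf 2758))) (.node (.node (.leaf 0) (.leaf 1604) (.leaf 278) (.leaf 228)) (.node (.leaf 1413) (.leaf 0) (.leaf 0) (.leaf 0)) (.node (.leaf 351) (.leaf 0) (.leaf 0) (.leaf 0)) (.node (.leaf 183) (.leaf 0) (.leaf 0) (.leaf 0))) (.node (.node (.leaf 0) (.leaf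 359) (.leaf 31) (.leaf 1375)) (.node (.leaf 456) (.leaf 0) (.leaf 0) (.leaf 0)) (.node (.leaf 8) (.leaf 0) (.leaf 0) (.leaf 0)) (.node (.leaf 1185) (.leaf 0) (.leaf 0) (.leaf 0))) (.node (.node (.leaf 0) (.leaf 2624) (.leaf 1212) (.leaf 1922)) (.node (.leaf 2855) (.leaf 0) (.leaf 0) (.leaf 0)) (.node (.leaf 1029) (.leaf 0) (.leaf 0) (.leaf 0)) (.node (.leaf 1716) (.leaf 0) (.leaf 0) (.leaf 0)))) (.node (.node (.node (.leaf 1091) (.leaf 0) (.leaf 0) (.leaf 0)) (.node (.leaf 0) (.leaf 701) (.leaf 864) (.leaf 353)) (.node (.leaf 0) (.leaf 705) (.leaf 440) (.leaf 2637)) (.node (.leaf 0) (.leaf 446) (.leaf 2513) (.leaf 1403))) (.node (.node (.leaf 0) (.leaf 867) (.leaf 288) (.leaf 2233)) (.node (.leaf 1046) (.leaf 0) (.leaf 0) (.leaf 0)) (.node (.leaf 367) (.leaf 0) (.leaf 0) (.leaf 0)) (.node (.leaf 2009) (.leaf 0) (.leaf 0) (.leaf 0))) (.node (.node (.leaf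 0) (.leaf 835) (.leaf 1563) (.leaf 2041)) (.node (.leaf 1003) (.leaf 0) (.leaf 0) (.leaf 0)) (.node (.leaf 1435) (.leaf 0) (.leaf 0) (.leaf 0)) (.node (.leaf 2178) (.leaf 0) (.leaf 0) (.leaf 0))) (.node (.node (.leaf 0) (.leaf 563) (.leaf 2149) (.leaf 583)) (.node (.leaf 449) (.leaf 0) (.leaf 0) (.leaf 0)) (.node (.leaf 2011) (.leaf 0) (.leaf 0) (.leaf 0)) (.node (.leaf 736) (.leaf 0) (.leaf 0) (.leaf 0)))))
def codeTree9 : SporBound.Q ℕ := (.node (.node (.node (.node (.leaf 1093) (.leaf 0) (.leaf 0) (.leaf 0)) (.node (.leaf 0) (.leaf 451) (.leaf 2769) (.leaf 1040)) (.node (.leaf 0) (.leaf 2939) (.leaf 1042) (.leaf 683)) (.node (.leaf 0) (.leaf 1226) (.leaf 550) (.leaf 990))) (.node (.node (.leaf 0) (.leaf 1941) (.leaf 2085) (.leaf 830)) (.node (.leaf 1808) (.leaf 0) (.leaf 0) (.leaf 0)) (.node (.leaf 2236) (.leaf 0) (.leaf 0) (.leaf 0)) (.node (.leaf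 994) (.leaf 0) (.leaf 0) (.leaf 0))) (.node (.node (.leaf 0) (.leaf 1852) (.leaf 364) (.leaf 352)) (.node (.leaf 2060) (.leaf 0) (.leaf 0) (.leaf 0)) (.node (.leaf 467) (.leaf 0) (.leaf 0) (.leaf 0)) (.node (.leaf 279) (.leaf 0) (.leaf 0) (.leaf 0))) (.node (.node (.leaf 0) (.leaf 285) (.leaf 1762) (.leaf 860)) (.node (.leaf 363) (.leaf 0) (.leaf 0) (.leaf 0)) (.node (.leaf 1985) (.leaf 0) (.leaf 0) (.leaf 0)) (.node (.leaf 1036) (.leaf 0) (.leaf 0) (.leaf 0)))) (.node (.node (.node (.leaf 0) (.leaf 720) (.leaf 3270) (.leaf 1549)) (.node (.leaf 571) (.leaf 0) (.leaf 0) (.leaf 0)) (.node (.leaf 3100) (.leaf 0) (.leaf 0) (.leaf 0)) (.node (.leaf 1420) (.leaf 0) (.leaf 0) (.leaf 0))) (.node (.node (.leaf 2139) (.leaf 0) (.leaf 0) (.leaf 0)) (.node (.leaf 0) (.leaf 82) (.leaf 340) (.leaf 880)) (.node (.leaf 0) (.leaf 270) (.leaf 35) (.leaf 686)) (.node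 (.leaf 0) (.leaf 727) (.leaf 831) (.leaf 2243))) (.node (.node (.leaf 1638) (.leaf 0) (.leaf 0) (.leaf 0)) (.node (.leaf 0) (.leaf 140) (.leaf 266) (.leaf 1562)) (.node (.leaf 0) (.leaf 214) (.leaf 339) (.leaf 1550)) (.node (.leaf 0) (.leaf 1761) (.leaf 1366) (.leaf 1943))) (.node (.node (.leaf 226) (.leaf 0) (.leaf 0) (.leaf 0)) (.node (.leaf 0) (.leaf 1526) (.leaf 277) (.leaf 557)) (.node (.leaf 0) (.leaf 221) (.leaf 827) (.leaf 2755)) (.node (.leaf 0) (.leaf 698) (.leaf 2942) (.leaf 899)))) (.node (.node (.node (.leaf 0) (.leaf 3163) (.leaf 721) (.leaf 840)) (.node (.leaf 3004) (.leaf 0) (.leaf 0) (.leaf 0)) (.node (.leaf 874) (.leaf 0) (.leaf 0) (.leaf 0)) (.node (.leaf 688) (.leaf 0) (.leaf 0) (.leaf 0))) (.node (.node (.leaf 1881) (.leaf 0) (.leaf 0) (.leaf 0)) (.node (.leaf 0) (.leaf 428) (.leaf 58) (.leaf 912)) (.node (.leaf 0) (.leaf 33) (.leaf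 176) (.leaf 357)) (.node (.leaf 0) (.leaf 996) (.leaf 455) (.leaf 1829))) (.node (.node (.leaf 286) (.leaf 0) (.leaf 0) (.leaf 0)) (.node (.leaf 0) (.leaf 336) (.leaf 216) (.leaf 1422)) (.node (.leaf 0) (.leaf 269) (.leaf 215) (.leaf 1601)) (.node (.leaf 0) (.leaf 1227) (.leaf 1806) (.leaf 292))) (.node (.node (.leaf 1564) (.leaf 0) (.leaf 0) (.leaf 0)) (.node (.leaf 0) (.leaf 350) (.leaf 1166) (.leaf 2873)) (.node (.leaf 0) (.leaf 989) (.leaf 218) (.leaf 845)) (.node (.leaf 0) (.leaf 3085) (.leaf 699) (.leaf 1603)))) (.node (.node (.node (.leaf 0) (.leaf 1365) (.leaf 999) (.leaf 1352)) (.node (.leaf 1179) (.leaf 0) (.leaf 0) (.leaf 0)) (.node (.leaf 833) (.leaf 0) (.leaf 0) (.leaf 0)) (.node (.leaf 1168) (.leaf 0) (.leaf 0) (.leaf 0))) (.node (.node (.leaf 681) (.leaf 0) (.leaf 0) (.leaf 0)) (.node (.leaf 0) (.leaf 1048) (.leaf 746) (.leaf 2148)) (.node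 (.leaf 0) (.leaf 595) (.leaf 281) (.leaf 2234)) (.node (.leaf 0) (.leaf 2010) (.leaf 2059) (.leaf 1358))) (.node (.node (.leaf 445) (.leaf 0) (.leaf 0) (.leaf 0)) (.node (.leaf 0) (.leaf 1374) (.leaf 1615) (.leaf 2427)) (.node (.leaf 0) (.leaf 1743) (.leaf 1411) (.leaf 468)) (.node (.leaf 0) (.leaf 2176) (.leaf 368) (.leaf 274))) (.node (.node (.leaf 702) (.leaf 0) (.leaf 0) (.leaf 0)) (.node (.leaf 0) (.leaf 441) (.leaf 2686) (.leaf 591)) (.node (.leaf 0) (.leaf 2510) (.leaf 1004) (.leaf 2037)) (.node (.leaf 0) (.leaf 738) (.leaf 1807) (.leaf 1037)))))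
def codeTree10 : SporBound.Q ℕ := (.node (.node (.node (.node (.leaf 12) (.leaf 0) (.leaf 0) (.leaf 0)) (.node (.leaf 0) (.leaf 3103) (.leaf 1578) (.leaf 1052)) (.node (.leaf 0) (.leaf 1443) (.leaf 109) (.leaf 849)) (.node (.leaf 0) (.leaf 872) (.leaf 726) (.leaf 3217))) (.node (.node (.leaf 0) (.leaf 1272) (.leaf 434) (.leaf 144)) (.node (.leaf 1083) (.leaf 0) (.leaf 0) (.leaf 0)) (.node (.leaf 545) (.leaf 0) (.leaf 0) (.leaf 0)) (.node (.leaf 114) (.leaf 0) (.leaf 0) (.leaf 0))) (.node (.node (.leaf 0) (.leaf 225) (.leaf 50) (.leaf 1709)) (.node (.leaf 282) (.leaf 0) (.leaf 0) (.leaf 0)) (.node (.leaf 26) (.leaf 0) (.leaf 0) (.leaf 0)) (.node (.leaf 1525) (.leaf 0) (.leaf 0) (.leaf 0))) (.node (.node (.leaf 0) (.leaf 2138) (.leaf 1580) (.leaf 1667)) (.node (.leaf 2364) (.leaf 0) (.leaf 0) (.leaf 0)) (.node (.leaf 1396) (.leaf 0) (.leaf 0) (.leaf 0))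 (.node (.leaf 1734) (.leaf 0) (.leaf 0) (.leaf 0)))) (.node (.node (.node (.leaf 0) (.leaf 3400) (.leaf 1069) (.leaf 1191)) (.node (.leaf 3283) (.leaf 0) (.leaf 0) (.leaf 0)) (.node (.leaf 1246) (.leaf 0) (.leaf 0) (.leaf 0)) (.node (.leaf 1008) (.leaf 0) (.leaf 0) (.leaf 0))) (.node (.node (.leaf 1469) (.leaf 0) (.leaf 0) (.leaf 0)) (.node (.leaf 0) (.leaf 443) (.leaf 79) (.leaf 1269)) (.node (.leaf 0) (.leaf 51) (.leaf 272) (.leaf 575)) (.node (.leaf 0) (.leaf 1361) (.leaf 725) (.leaf 2245))) (.node (.node (.leaf 181) (.leaf 0) (.leaf 0) (.leaf 0)) (.node (.leaf 0) (.leaf 541) (.leaf 141) (.leaf 1778)) (.node (.leaf 0) (.leaf 178) (.leaf 137) (.leaf 1257)) (.node (.leaf 0) (.leaf 1581) (.leaf 1444) (.leaf 472))) (.node (.node (.leaf 1914) (.leaf 0) (.leaf 0) (.leaf 0)) (.node (.leaf 0) (.leaf 542) (.leaf 1524) (.leaf 2379)) (.node (.leaf 0) (.leaf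 1347) (.leaf 142) (.leaf 1199)) (.node (.leaf 0) (.leaf 2609) (.leaf 1026) (.leaf 1271)))) (.node (.node (.node (.leaf 0) (.leaf 1210) (.leaf 173) (.leaf 1027)) (.node (.leaf 1394) (.leaf 0) (.leaf 0) (.leaf 0)) (.node (.leaf 139) (.leaf 0) (.leaf 0) (.leaf 0)) (.node (.leaf 854) (.leaf 0) (.leaf 0) (.leaf 0))) (.node (.node (.leaf 548) (.leaf 0) (.leaf 0) (.leaf 0)) (.node (.leaf 0) (.leaf 106) (.leaf 437) (.leaf 1025)) (.node (.leaf 0) (.leaf 345) (.leaf 678) (.leaf 1912)) (.node (.leaf 0) (.leaf 885) (.leaf 2125) (.leaf 143))) (.node (.node (.leaf 77) (.leaf 0) (.leaf 0) (.leaf 0)) (.node (.leaf 0) (.leaf 112) (.leaf 80) (.leaf 1053)) (.node (.leaf 0) (.leaf 108) (.leaf 637) (.leaf 136)) (.node (.leaf 0) (.leaf 1247) (.leaf 170) (.leaf 433))) (.node (.node (.leaf 1776) (.leaf 0) (.leaf 0) (.leaf 0)) (.node (.leaf 0) (.leaf 1707) (.leaf 88) (.leaf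 1395)) (.node (.leaf 0) (.leaf 113) (.leaf 86) (.leaf 87)) (.node (.leaf 0) (.leaf 1201) (.leaf 62) (.leaf 138)))) (.node (.node (.node (.leaf 0) (.leaf 1381) (.leaf 884) (.leaf 3399)) (.node (.leaf 1245) (.leaf 0) (.leaf 0) (.leaf 0)) (.node (.leaf 719) (.leaf 0) (.leaf 0) (.leaf 0)) (.node (.leaf 3280) (.leaf 0) (.leaf 0) (.leaf 0))) (.node (.node (.leaf 180) (.leaf 0) (.leaf 0) (.leaf 0)) (.node (.leaf 0) (.leaf 1081) (.leaf 853) (.leaf 2692)) (.node (.leaf 0) (.leaf 697) (.leaf 1708) (.leaf 224)) (.node (.leaf 0) (.leaf 2498) (.leaf 179) (.leaf 679))) (.node (.node (.leaf 1913) (.leaf 0) (.leaf 0) (.leaf 0)) (.node (.leaf 0) (.leaf 1998) (.leaf 893) (.leaf 682)) (.node (.leaf 0) (.leaf 1062) (.leaf 107) (.leaf 430)) (.node (.leaf 0) (.leaf 549) (.leaf 342) (.leaf 60))) (.node (.node (.leaf 1470) (.leaf 0) (.leaf 0) (.leaf 0)) (.node (.leaf 0) (.leaf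 2141) (.leaf 1577) (.leaf 1543)) (.node (.leaf 0) (.leaf 1392) (.leaf 111) (.leaf 213)) (.node (.leaf 0) (.leaf 1467) (.leaf 171) (.leaf 427)))))
def codeTree11 : SporBound.Q ℕ := (.node (.node (.node (.node (.leaf 1279) (.leaf 0) (.leaf 0) (.leaf 0)) (.node (.leaf 0) (.leaf 828) (.leaf 1401) (.leaf 687)) (.node (.leaf 0) (.leaf 1214) (.leaf 355) (.leaf 2937)) (.node (.leaf 0) (.leaf 832) (.leaf 2687) (.leaf 1228))) (.node (.node (.leaf 0) (.leaf 703) (.leaf 362) (.leaf 1940)) (.node (.leaf 861) (.leaf 0) (.leaf 0) (.leaf 0)) (.node (.leaf 464) (.leaf 0) (.leaf 0) (.leaf 0)) (.node (.leaf 2174) (.leaf 0) (.leaf 0) (.leaf 0))) (.node (.node (.leaf 0) (.leaf 993) (.leaf 2177) (.leaf 1854)) (.node (.leaf 1173) (.leaf 0) (.leaf 0) (.leaf 0)) (.node (.leaf 2040) (.leaf 0) (.leaf 0) (.leaf 0)) (.node (.leaf 1989) (.leaf 0) (.leaf 0) (.leaf 0))) (.node (.node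 (.leaf 0) (.leaf 432) (.leaf 2039) (.leaf 287)) (.node (.leaf 344) (.leaf 0) (.leaf 0) (.leaf 0)) (.node (.leaf 2291) (.leaf 0) (.leaf 0) (.leaf 0)) (.node (.leaf 365) (.leaf 0) (.leaf 0) (.leaf 0)))) (.node (.node (.node (.leaf 0) (.leaf 1169) (.leaf 1529) (.leaf 1180)) (.node (.leaf 991) (.leaf 0) (.leaf 0) (.leaf 0)) (.node (.leaf 1351) (.leaf 0) (.leaf 0) (.leaf 0)) (.node (.leaf 998) (.leaf 0) (.leaf 0) (.leaf 0))) (.node (.node (.leaf 561) (.leaf 0) (.leaf 0) (.leaf 0)) (.node (.leaf 0) (.leaf 1222) (.leaf 585) (.leaf 1635)) (.node (.leaf 0) (.leaf 465) (.leaf 348) (.leaf 2429)) (.node (.leaf 0) (.leaf 1827) (.leaf 2684) (.leaf 1186))) (.node (.node (.leaf 829) (.leaf 0) (.leaf 0) (.leaf 0)) (.node (.leaf 0) (.leaf 1174) (.leaf 2257) (.leaf 2256)) (.node (.leaf 0) (.leaf 2038) (.leaf 869) (.leaf 906)) (.node (.leaf 0) (.leaf 2492) (.leaf 744)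 (.leaf 356))) (.node (.node (.leaf 544) (.leaf 0) (.leaf 0) (.leaf 0)) (.node (.leaf 0) (.leaf 223) (.leaf 1987) (.leaf 471)) (.node (.leaf 0) (.leaf 2232) (.leaf 1538) (.leaf 1787)) (.node (.leaf 0) (.leaf 594) (.leaf 1921) (.leaf 1236)))) (.node (.node (.node (.leaf 0) (.leaf 1714) (.leaf 572) (.leaf 3087)) (.node (.leaf 1587) (.leaf 0) (.leaf 0) (.leaf 0)) (.node (.leaf 452) (.leaf 0) (.leaf 0) (.leaf 0)) (.node (.leaf 2874) (.leaf 0) (.leaf 0) (.leaf 0))) (.node (.node (.leaf 284) (.leaf 0) (.leaf 0) (.leaf 0)) (.node (.leaf 0) (.leaf 732) (.leaf 558) (.leaf 3086)) (.node (.leaf 0) (.leaf 442) (.leaf 1349) (.leaf 341)) (.node (.leaf 0) (.leaf 2936) (.leaf 271) (.leaf 988))) (.node (.node (.leaf 2380) (.leaf 0) (.leaf 0) (.leaf 0)) (.node (.leaf 0) (.leaf 2499) (.leaf 577) (.leaf 995)) (.node (.leaf 0) (.leaf 716) (.leaf 84) (.leaf 276)) (.node (.leaf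 0) (.leaf 837) (.leaf 220) (.leaf 52))) (.node (.node (.leaf 1810) (.leaf 0) (.leaf 0) (.leaf 0)) (.node (.leaf 0) (.leaf 1765) (.leaf 1939) (.leaf 1530)) (.node (.leaf 0) (.leaf 1727) (.leaf 174) (.leaf 335)) (.node (.leaf 0) (.leaf 1715) (.leaf 267) (.leaf 275)))) (.node (.node (.node (.leaf 0) (.leaf 1009) (.leaf 3271) (.leaf 886)) (.node (.leaf 839) (.leaf 0) (.leaf 0) (.leaf 0)) (.node (.leaf 3160) (.leaf 0) (.leaf 0) (.leaf 0)) (.node (.leaf 1054) (.leaf 0) (.leaf 0) (.leaf 0))) (.node (.node (.leaf 1729) (.leaf 0) (.leaf 0) (.leaf 0)) (.node (.leaf 0) (.leaf 1436) (.leaf 2857) (.leaf 855)) (.node (.leaf 0) (.leaf 2625) (.leaf 429) (.leaf 1348)) (.node (.leaf 0) (.leaf 1015) (.leaf 1165) (.leaf 177))) (.node (.node (.leaf 1669) (.leaf 0) (.leaf 0) (.leaf 0)) (.node (.leaf 0) (.leaf 2012) (.leaf 1176) (.leaf 576)) (.node (.leaf 0) (.leaf 1090)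 (.leaf 349) (.leaf 55)) (.node (.leaf 0) (.leaf 454) (.leaf 30) (.leaf 217))) (.node (.node (.leaf 227) (.leaf 0) (.leaf 0) (.leaf 0)) (.node (.leaf 0) (.leaf 371) (.leaf 1402) (.leaf 1634)) (.node (.leaf 0) (.leaf 1589) (.leaf 425) (.leaf 175)) (.node (.leaf 0) (.leaf 1434) (.leaf 219) (.leaf 172)))))
def codeTree12 : SporBound.Q ℕ := (.node (.node (.node (.node (.leaf 0) (.leaf 907) (.leaf 1451) (.leaf 32)) (.node (.leaf 737) (.leaf 0) (.leaf 0) (.leaf 0)) (.node (.leaf 1579) (.leaf 0) (.leaf 0) (.leaf 0)) (.node (.leaf 57) (.leaf 0) (.leaf 0) (.leaf 0))) (.node (.node (.leaf 1582) (.leaf 0) (.leaf 0) (.leaf 0)) (.node (.leaf 0) (.leaf 905) (.leaf 715) (.leaf 1590)) (.node (.leaf 0) (.leaf 568) (.leaf 553) (.leaf 2691)) (.node (.leaf 0) (.leaf 1789) (.leaf 2497) (.leaf 856))) (.node (.node (.leaf 273) (.leaf 0) (.leaf 0) (.leaf 0)) (.node (.leaf 0)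 (.leaf 1788) (.leaf 1373) (.leaf 230)) (.node (.leaf 0) (.leaf 1235) (.leaf 1468) (.leaf 1540)) (.node (.leaf 0) (.leaf 291) (.leaf 1730) (.leaf 444))) (.node (.node (.leaf 53) (.leaf 0) (.leaf 0) (.leaf 0)) (.node (.leaf 0) (.leaf 2381) (.leaf 690) (.leaf 1047)) (.node (.leaf 0) (.leaf 844) (.leaf 2500) (.leaf 579)) (.node (.leaf 0) (.leaf 1237) (.leaf 731) (.leaf 9)))) (.node (.node (.node (.leaf 1091) (.leaf 0) (.leaf 0) (.leaf 0)) (.node (.leaf 0) (.leaf 1403) (.leaf 446) (.leaf 2513)) (.node (.leaf 0) (.leaf 353) (.leaf 701) (.leaf 864)) (.node (.leaf 0) (.leaf 2637) (.leaf 705) (.leaf 440))) (.node (.node (.leaf 0) (.leaf 583) (.leaf 563) (.leaf 2149)) (.node (.leaf 736) (.leaf 0) (.leaf 0) (.leaf 0)) (.node (.leaf 449) (.leaf 0) (.leaf 0) (.leaf 0)) (.node (.leaf 2011) (.leaf 0) (.leaf 0) (.leaf 0))) (.node (.node (.leaf 0) (.leaf 2233) (.leaf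 867) (.leaf 288)) (.node (.leaf 2009) (.leaf 0) (.leaf 0) (.leaf 0)) (.node (.leaf 1046) (.leaf 0) (.leaf 0) (.leaf 0)) (.node (.leaf 367) (.leaf 0) (.leaf 0) (.leaf 0))) (.node (.node (.leaf 0) (.leaf 2041) (.leaf 835) (.leaf 1563)) (.node (.leaf 2178) (.leaf 0) (.leaf 0) (.leaf 0)) (.node (.leaf 1003) (.leaf 0) (.leaf 0) (.leaf 0)) (.node (.leaf 1435) (.leaf 0) (.leaf 0) (.leaf 0)))) (.node (.node (.node (.leaf 1278) (.leaf 0) (.leaf 0) (.leaf 0)) (.node (.leaf 0) (.leaf 560) (.leaf 1032) (.leaf 448)) (.node (.leaf 0) (.leaf 858) (.leaf 347) (.leaf 2432)) (.node (.leaf 0) (.leaf 562) (.leaf 2295) (.leaf 1588))) (.node (.node (.leaf 0) (.leaf 707) (.leaf 366) (.leaf 2428)) (.node (.leaf 868) (.leaf 0) (.leaf 0) (.leaf 0)) (.node (.leaf 469) (.leaf 0) (.leaf 0) (.leaf 0)) (.node (.leaf 2255) (.leaf 0) (.leaf 0) (.leaf 0))) (.node (.node (.leaf 0) (.leaf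 1002) (.leaf 1763) (.leaf 1809)) (.node (.leaf 1184) (.leaf 0) (.leaf 0) (.leaf 0)) (.node (.leaf 1636) (.leaf 0) (.leaf 0) (.leaf 0)) (.node (.leaf 1942) (.leaf 0) (.leaf 0) (.leaf 0))) (.node (.node (.leaf 0) (.leaf 684) (.leaf 2389) (.leaf 459)) (.node (.leaf 551) (.leaf 0) (.leaf 0) (.leaf 0)) (.node (.leaf 2258) (.leaf 0) (.leaf 0) (.leaf 0)) (.node (.leaf 584) (.leaf 0) (.leaf 0) (.leaf 0)))) (.node (.node (.node (.leaf 10) (.leaf 0) (.leaf 0) (.leaf 0)) (.node (.leaf 0) (.leaf 2758) (.leaf 566) (.leaf 470)) (.node (.leaf 0) (.leaf 711) (.leaf 2628) (.leaf 1995)) (.node (.leaf 0) (.leaf 555) (.leaf 1786) (.leaf 81))) (.node (.node (.leaf 0) (.leaf 1922) (.leaf 2624) (.leaf 1212)) (.node (.leaf 1716) (.leaf 0) (.leaf 0) (.leaf 0)) (.node (.leaf 2855) (.leaf 0) (.leaf 0) (.leaf 0)) (.node (.leaf 1029) (.leaf 0) (.leaf 0) (.leaf 0))) (.node (.node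 (.leaf 0) (.leaf 228) (.leaf 1604) (.leaf 278)) (.node (.leaf 183) (.leaf 0) (.leaf 0) (.leaf 0)) (.node (.leaf 1413) (.leaf 0) (.leaf 0) (.leaf 0)) (.node (.leaf 351) (.leaf 0) (.leaf 0) (.leaf 0))) (.node (.node (.leaf 0) (.leaf 1375) (.leaf 359) (.leaf 31)) (.node (.leaf 1185) (.leaf 0) (.leaf 0) (.leaf 0)) (.node (.leaf 456) (.leaf 0) (.leaf 0) (.leaf 0)) (.node (.leaf 8) (.leaf 0) (.leaf 0) (.leaf 0)))))
def codeTree13 : SporBound.Q ℕ := (.node (.node (.node (.node (.leaf 1279) (.leaf 0) (.leaf 0) (.leaf 0)) (.node (.leaf 0) (.leaf 1228) (.leaf 832) (.leaf 2687)) (.node (.leaf 0) (.leaf 687) (.leaf 828) (.leaf 1401)) (.node (.leaf 0) (.leaf 2937) (.leaf 1214) (.leaf 355))) (.node (.node (.leaf 0) (.leaf 287) (.leaf 432) (.leaf 2039)) (.node (.leaf 365) (.leaf 0) (.leaf 0) (.leaf 0)) (.node (.leaf 344) (.leaf 0) (.leaf 0) (.leaf 0)) (.node (.leaf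 2291) (.leaf 0) (.leaf 0) (.leaf 0))) (.node (.node (.leaf 0) (.leaf 1940) (.leaf 703) (.leaf 362)) (.node (.leaf 2174) (.leaf 0) (.leaf 0) (.leaf 0)) (.node (.leaf 861) (.leaf 0) (.leaf 0) (.leaf 0)) (.node (.leaf 464) (.leaf 0) (.leaf 0) (.leaf 0))) (.node (.node (.leaf 0) (.leaf 1854) (.leaf 993) (.leaf 2177)) (.node (.leaf 1989) (.leaf 0) (.leaf 0) (.leaf 0)) (.node (.leaf 1173) (.leaf 0) (.leaf 0) (.leaf 0)) (.node (.leaf 2040) (.leaf 0) (.leaf 0) (.leaf 0)))) (.node (.node (.node (.leaf 0) (.leaf 886) (.leaf 1009) (.leaf 3271)) (.node (.leaf 1054) (.leaf 0) (.leaf 0) (.leaf 0)) (.node (.leaf 839) (.leaf 0) (.leaf 0) (.leaf 0)) (.node (.leaf 3160) (.leaf 0) (.leaf 0) (.leaf 0))) (.node (.node (.leaf 227) (.leaf 0) (.leaf 0) (.leaf 0)) (.node (.leaf 0) (.leaf 172) (.leaf 1434) (.leaf 219)) (.node (.leaf 0) (.leaf 1634) (.leaf 371) (.leaf 1402))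 (.node (.leaf 0) (.leaf 175) (.leaf 1589) (.leaf 425))) (.node (.node (.leaf 1729) (.leaf 0) (.leaf 0) (.leaf 0)) (.node (.leaf 0) (.leaf 177) (.leaf 1015) (.leaf 1165)) (.node (.leaf 0) (.leaf 855) (.leaf 1436) (.leaf 2857)) (.node (.leaf 0) (.leaf 1348) (.leaf 2625) (.leaf 429))) (.node (.node (.leaf 1669) (.leaf 0) (.leaf 0) (.leaf 0)) (.node (.leaf 0) (.leaf 217) (.leaf 454) (.leaf 30)) (.node (.leaf 0) (.leaf 576) (.leaf 2012) (.leaf 1176)) (.node (.leaf 0) (.leaf 55) (.leaf 1090) (.leaf 349)))) (.node (.node (.node (.leaf 0) (.leaf 1180) (.leaf 1169) (.leaf 1529)) (.node (.leaf 998) (.leaf 0) (.leaf 0) (.leaf 0)) (.node (.leaf 991) (.leaf 0) (.leaf 0) (.leaf 0)) (.node (.leaf 1351) (.leaf 0) (.leaf 0) (.leaf 0))) (.node (.node (.leaf 544) (.leaf 0) (.leaf 0) (.leaf 0)) (.node (.leaf 0) (.leaf 1236) (.leaf 594) (.leaf 1921)) (.node (.leaf 0) (.leaf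 471) (.leaf 223) (.leaf 1987)) (.node (.leaf 0) (.leaf 1787) (.leaf 2232) (.leaf 1538))) (.node (.node (.leaf 561) (.leaf 0) (.leaf 0) (.leaf 0)) (.node (.leaf 0) (.leaf 1186) (.leaf 1827) (.leaf 2684)) (.node (.leaf 0) (.leaf 1635) (.leaf 1222) (.leaf 585)) (.node (.leaf 0) (.leaf 2429) (.leaf 465) (.leaf 348))) (.node (.node (.leaf 829) (.leaf 0) (.leaf 0) (.leaf 0)) (.node (.leaf 0) (.leaf 356) (.leaf 2492) (.leaf 744)) (.node (.leaf 0) (.leaf 2256) (.leaf 1174) (.leaf 2257)) (.node (.leaf 0) (.leaf 906) (.leaf 2038) (.leaf 869)))) (.node (.node (.node (.leaf 0) (.leaf 3087) (.leaf 1714) (.leaf 572)) (.node (.leaf 2874) (.leaf 0) (.leaf 0) (.leaf 0)) (.node (.leaf 1587) (.leaf 0) (.leaf 0) (.leaf 0)) (.node (.leaf 452) (.leaf 0) (.leaf 0) (.leaf 0))) (.node (.node (.leaf 1810) (.leaf 0) (.leaf 0) (.leaf 0)) (.node (.leaf 0) (.leaf 275) (.leaf 1715)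 (.leaf 267)) (.node (.leaf 0) (.leaf 1530) (.leaf 1765) (.leaf 1939)) (.node (.leaf 0) (.leaf 335) (.leaf 1727) (.leaf 174))) (.node (.node (.leaf 284) (.leaf 0) (.leaf 0) (.leaf 0)) (.node (.leaf 0) (.leaf 988) (.leaf 2936) (.leaf 271)) (.node (.leaf 0) (.leaf 3086) (.leaf 732) (.leaf 558)) (.node (.leaf 0) (.leaf 341) (.leaf 442) (.leaf 1349))) (.node (.node (.leaf 2380) (.leaf 0) (.leaf 0) (.leaf 0)) (.node (.leaf 0) (.leaf 52) (.leaf 837) (.leaf 220)) (.node (.leaf 0) (.leaf 995) (.leaf 2499) (.leaf 577)) (.node (.leaf 0) (.leaf 276) (.leaf 716) (.leaf 84)))))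
def codeTree14 : SporBound.Q ℕ := (.node (.node (.node (.node (.leaf 1093) (.leaf 0) (.leaf 0) (.leaf 0)) (.node (.leaf 0) (.leaf 990) (.leaf 1226) (.leaf 550)) (.node (.leaf 0) (.leaf 1040) (.leaf 451) (.leaf 2769)) (.node (.leaf 0) (.leaf 683) (.leaf 2939) (.leaf 1042))) (.node (.node (.leaf 0) (.leaf 860) (.leaf 285) (.leaf 1762)) (.node (.leaf 1036) (.leaf 0) (.leaf 0) (.leaf 0)) (.node (.leaf 363) (.leaf 0) (.leaf 0) (.leaf 0)) (.node (.leaf 1985) (.leaf 0) (.leaf 0) (.leaf 0))) (.node (.node (.leaf 0) (.leaf 830) (.leaf 1941) (.leaf 2085)) (.node (.leaf 994) (.leaf 0) (.leaf 0) (.leaf 0)) (.node (.leaf 1808) (.leaf 0) (.leaf 0) (.leaf 0)) (.node (.leaf 2236) (.leaf 0) (.leaf 0) (.leaf 0))) (.node (.node (.leaf 0) (.leaf 352) (.leaf 1852) (.leaf 364)) (.node (.leaf 279) (.leaf 0) (.leaf 0) (.leaf 0)) (.node (.leaf 2060) (.leaf 0) (.leaf 0) (.leaf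 0)) (.node (.leaf 467) (.leaf 0) (.leaf 0) (.leaf 0)))) (.node (.node (.node (.leaf 0) (.leaf 1352) (.leaf 1365) (.leaf 999)) (.node (.leaf 1168) (.leaf 0) (.leaf 0) (.leaf 0)) (.node (.leaf 1179) (.leaf 0) (.leaf 0) (.leaf 0)) (.node (.leaf 833) (.leaf 0) (.leaf 0) (.leaf 0))) (.node (.node (.leaf 702) (.leaf 0) (.leaf 0) (.leaf 0)) (.node (.leaf 0) (.leaf 1037) (.leaf 738) (.leaf 1807)) (.node (.leaf 0) (.leaf 591) (.leaf 441) (.leaf 2686)) (.node (.leaf 0) (.leaf 2037) (.leaf 2510) (.leaf 1004))) (.node (.node (.leaf 681) (.leaf 0) (.leaf 0) (.leaf 0)) (.node (.leaf 0) (.leaf 1358) (.leaf 2010) (.leaf 2059)) (.node (.leaf 0) (.leaf 2148) (.leaf 1048) (.leaf 746)) (.node (.leaf 0) (.leaf 2234) (.leaf 595) (.leaf 281))) (.node (.node (.leaf 445) (.leaf 0) (.leaf 0) (.leaf 0)) (.node (.leaf 0) (.leaf 274) (.leaf 2176) (.leaf 368)) (.node (.leaf 0) (.leaf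 2427) (.leaf 1374) (.leaf 1615)) (.node (.leaf 0) (.leaf 468) (.leaf 1743) (.leaf 1411)))) (.node (.node (.node (.leaf 0) (.leaf 1549) (.leaf 720) (.leaf 3270)) (.node (.leaf 1420) (.leaf 0) (.leaf 0) (.leaf 0)) (.node (.leaf 571) (.leaf 0) (.leaf 0) (.leaf 0)) (.node (.leaf 3100) (.leaf 0) (.leaf 0) (.leaf 0))) (.node (.node (.leaf 226) (.leaf 0) (.leaf 0) (.leaf 0)) (.node (.leaf 0) (.leaf 899) (.leaf 698) (.leaf 2942)) (.node (.leaf 0) (.leaf 557) (.leaf 1526) (.leaf 277)) (.node (.leaf 0) (.leaf 2755) (.leaf 221) (.leaf 827))) (.node (.node (.leaf 2139) (.leaf 0) (.leaf 0) (.leaf 0)) (.node (.leaf 0) (.leaf 2243) (.leaf 727) (.leaf 831)) (.node (.leaf 0) (.leaf 880) (.leaf 82) (.leaf 340)) (.node (.leaf 0) (.leaf 686) (.leaf 270) (.leaf 35))) (.node (.node (.leaf 1638) (.leaf 0) (.leaf 0) (.leaf 0)) (.node (.leaf 0) (.leaf 1943) (.leaf 1761) (.leaf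 1366)) (.node (.leaf 0) (.leaf 1562) (.leaf 140) (.leaf 266)) (.node (.leaf 0) (.leaf 1550) (.leaf 214) (.leaf 339)))) (.node (.node (.node (.leaf 0) (.leaf 840) (.leaf 3163) (.leaf 721)) (.node (.leaf 688) (.leaf 0) (.leaf 0) (.leaf 0)) (.node (.leaf 3004) (.leaf 0) (.leaf 0) (.leaf 0)) (.node (.leaf 874) (.leaf 0) (.leaf 0) (.leaf 0))) (.node (.node (.leaf 1564) (.leaf 0) (.leaf 0) (.leaf 0)) (.node (.leaf 0) (.leaf 1603) (.leaf 3085) (.leaf 699)) (.node (.leaf 0) (.leaf 2873) (.leaf 350) (.leaf 1166)) (.node (.leaf 0) (.leaf 845) (.leaf 989) (.leaf 218))) (.node (.node (.leaf 1881) (.leaf 0) (.leaf 0) (.leaf 0)) (.node (.leaf 0) (.leaf 1829) (.leaf 996) (.leaf 455)) (.node (.leaf 0) (.leaf 912) (.leaf 428) (.leaf 58)) (.node (.leaf 0) (.leaf 357) (.leaf 33) (.leaf 176))) (.node (.node (.leaf 286) (.leaf 0) (.leaf 0) (.leaf 0)) (.node (.leaf 0) (.leaf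 292) (.leaf 1227) (.leaf 1806)) (.node (.leaf 0) (.leaf 1422) (.leaf 336) (.leaf 216)) (.node (.leaf 0) (.leaf 1601) (.leaf 269) (.leaf 215)))))
def codeTree15 : SporBound.Q ℕ := (.node (.node (.node (.node (.leaf 12) (.leaf 0) (.leaf 0) (.leaf 0)) (.node (.leaf 0) (.leaf 3217) (.leaf 872) (.leaf 726)) (.node (.leaf 0) (.leaf 1052) (.leaf 3103) (.leaf 1578)) (.node (.leaf 0) (.leaf 849) (.leaf 1443) (.leaf 109))) (.node (.node (.leaf 0) (.leaf 1667) (.leaf 2138) (.leaf 1580)) (.node (.leaf 1734) (.leaf 0) (.leaf 0) (.leaf 0)) (.node (.leaf 2364) (.leaf 0) (.leaf 0) (.leaf 0)) (.node (.leaf 1396) (.leaf 0) (.leaf 0) (.leaf 0))) (.node (.node (.leaf 0) (.leaf 144) (.leaf 1272) (.leaf 434)) (.node (.leaf 114) (.leaf 0) (.leaf 0) (.leaf 0)) (.node (.leaf 1083) (.leaf 0) (.leaf 0) (.leaf 0)) (.node (.leaf 545) (.leaf 0) (.leaf 0) (.leaf 0))) (.node (.node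 (.leaf 0) (.leaf 1709) (.leaf 225) (.leaf 50)) (.node (.leaf 1525) (.leaf 0) (.leaf 0) (.leaf 0)) (.node (.leaf 282) (.leaf 0) (.leaf 0) (.leaf 0)) (.node (.leaf 26) (.leaf 0) (.leaf 0) (.leaf 0)))) (.node (.node (.node (.leaf 0) (.leaf 3399) (.leaf 1381) (.leaf 884)) (.node (.leaf 3280) (.leaf 0) (.leaf 0) (.leaf 0)) (.node (.leaf 1245) (.leaf 0) (.leaf 0) (.leaf 0)) (.node (.leaf 719) (.leaf 0) (.leaf 0) (.leaf 0))) (.node (.node (.leaf 1470) (.leaf 0) (.leaf 0) (.leaf 0)) (.node (.leaf 0) (.leaf 427) (.leaf 1467) (.leaf 171)) (.node (.leaf 0) (.leaf 1543) (.leaf 2141) (.leaf 1577)) (.node (.leaf 0) (.leaf 213) (.leaf 1392) (.leaf 111))) (.node (.node (.leaf 180) (.leaf 0) (.leaf 0) (.leaf 0)) (.node (.leaf 0) (.leaf 679) (.leaf 2498) (.leaf 179)) (.node (.leaf 0) (.leaf 2692) (.leaf 1081) (.leaf 853)) (.node (.leaf 0) (.leaf 224) (.leaf 697) (.leaf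 1708))) (.node (.node (.leaf 1913) (.leaf 0) (.leaf 0) (.leaf 0)) (.node (.leaf 0) (.leaf 60) (.leaf 549) (.leaf 342)) (.node (.leaf 0) (.leaf 682) (.leaf 1998) (.leaf 893)) (.node (.leaf 0) (.leaf 430) (.leaf 1062) (.leaf 107)))) (.node (.node (.node (.leaf 0) (.leaf 1191) (.leaf 3400) (.leaf 1069)) (.node (.leaf 1008) (.leaf 0) (.leaf 0) (.leaf 0)) (.node (.leaf 3283) (.leaf 0) (.leaf 0) (.leaf 0)) (.node (.leaf 1246) (.leaf 0) (.leaf 0) (.leaf 0))) (.node (.node (.leaf 1914) (.leaf 0) (.leaf 0) (.leaf 0)) (.node (.leaf 0) (.leaf 1271) (.leaf 2609) (.leaf 1026)) (.node (.leaf 0) (.leaf 2379) (.leaf 542) (.leaf 1524)) (.node (.leaf 0) (.leaf 1199) (.leaf 1347) (.leaf 142))) (.node (.node (.leaf 1469) (.leaf 0) (.leaf 0) (.leaf 0)) (.node (.leaf 0) (.leaf 2245) (.leaf 1361) (.leaf 725)) (.node (.leaf 0) (.leaf 1269) (.leaf 443) (.leaf 79)) (.node (.leaf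 0) (.leaf 575) (.leaf 51) (.leaf 272))) (.node (.node (.leaf 181) (.leaf 0) (.leaf 0) (.leaf 0)) (.node (.leaf 0) (.leaf 472) (.leaf 1581) (.leaf 1444)) (.node (.leaf 0) (.leaf 1778) (.leaf 541) (.leaf 141)) (.node (.leaf 0) (.leaf 1257) (.leaf 178) (.leaf 137)))) (.node (.node (.node (.leaf 0) (.leaf 1027) (.leaf 1210) (.leaf 173)) (.node (.leaf 854) (.leaf 0) (.leaf 0) (.leaf 0)) (.node (.leaf 1394) (.leaf 0) (.leaf 0) (.leaf 0)) (.node (.leaf 139) (.leaf 0) (.leaf 0) (.leaf 0))) (.node (.node (.leaf 1776) (.leaf 0) (.leaf 0) (.leaf 0)) (.node (.leaf 0) (.leaf 138) (.leaf 1201) (.leaf 62)) (.node (.leaf 0) (.leaf 1395) (.leaf 1707) (.leaf 88)) (.node (.leaf 0) (.leaf 87) (.leaf 113) (.leaf 86))) (.node (.node (.leaf 548) (.leaf 0) (.leaf 0) (.leaf 0)) (.node (.leaf 0) (.leaf 143) (.leaf 885) (.leaf 2125)) (.node (.leaf 0) (.leaf 1025) (.leaf 106)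 (.leaf 437)) (.node (.leaf 0) (.leaf 1912) (.leaf 345) (.leaf 678))) (.node (.node (.leaf 77) (.leaf 0) (.leaf 0) (.leaf 0)) (.node (.leaf 0) (.leaf 433) (.leaf 1247) (.leaf 170)) (.node (.leaf 0) (.leaf 1053) (.leaf 112) (.leaf 80)) (.node (.leaf 0) (.leaf 136) (.leaf 108) (.leaf 637)))))
def codeTree : SporBound.Q ℕ := (.node (.node codeTree0 codeTree4 codeTree8 codeTree12) (.node codeTree1 codeTree5 codeTree9 codeTree13) (.node codeTree2 codeTree6 codeTree10 codeTree14) (.node codeTree3 codeTree7 codeTree11 codeTree15))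


/-- For each generator of the stabiliser, the rows of the transvections with product its image. -/
def facData : List (List ℕ) := [[], [12], [10], [59], [110], [173], [34], [86], [12, 59, 34, 26, 62]]

/-- Six pairs (conjugating generators of the stabiliser, letter). -/
def relData : List (List ℕ × ℕ) := [([], 3), ([], 8), ([3, 2], 2), ([6, 7, 2, 1, 3, 6], 3), ([8, 7, 3, 6], 3), ([8, 7, 1, 6], 3)]

end CfsgLib.Recog.SporBound.Fi22U6
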